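/-
Biadditive maps of weight one over a finite field of characteristic two.
-/
import Mathlib

set_option autoImplicit false
set_option linter.unusedSectionVars false
set_option linter.style.haveILetI false

namespace Cfsg.Agent.LSType

universe u v w

variable {F : Type w} [Field F] [CharP F 2]

section Pairing

variable {h : F → F → F}

theorem pair_zero_left (hl : ∀ a a' b, h (a + a') b = h a b + h a' b) (b : F) : h 0 b = 0 := by
  have e := hl 0 0 b
  rw [add_zero] at e
  exact left_eq_add.1 e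

theorem pair_zero_right (hr : ∀ a b b', h a (b + b') = h a b + h a b') (a : F) : h a 0 = 0 := by
  have e := hr a 0 0
  rw [add_zero] at e
  exact left_eq_add.1 e

theorem pair_swap (hl : ∀ a a' b, h (a + a') b = h a b + h a' b)
    (hr : ∀ a b b', h a (b + b') = h a b + h a b')
    (ht : ∀ t a b, h (t * a) (t * b) = t * h a b) (a b : F) : h a b = h 1 (a * b) := by
  have e := ht (a + 1) 1 b
  rw [mul_one, hl, add_mul, one_mul, hr, hr] at e
  have e1 := ht a 1 b
  rw [mul_one] at e1
  rw [e1] at e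
  have e2 : h a b + h 1 (a * b) = 0 := by linear_combination e
  exact CharTwo.add_eq_zero.1 e2

theorem pair_sq [Finite F] (hl : ∀ a a' b, h (a + a') b = h a b + h a' b)
    (hr : ∀ a b b', h a (b + b') = h a b + h a b')
    (ht : ∀ t a b, h (t * a) (t * b) = t * h a b) (a b : F) :
    h a b ^ 2 = h 1 1 ^ 2 * (a * b) := by
  obtain ⟨r, hr'⟩ := isSquare_of_charTwo' (a * b)
  rw [pair_swap hl hr ht a b, hr', ← pair_swap hl hr ht r r]
  have e := ht r 1 1
  rw [mul_one] at e
  rw [e]; ring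

theorem pair_comm (hl : ∀ a a' b, h (a + a') b = h a b + h a' b)
    (hr : ∀ a b b', h a (b + b') = h a b + h a b')
    (ht : ∀ t a b, h (t * a) (t * b) = t * h a b) (a b : F) : h a b = h b a := by
  rw [pair_swap hl hr ht a b, pair_swap hl hr ht b a, mul_comm]

theorem pair_eq_zero [Finite F] (hl : ∀ a a' b, h (a + a') b = h a b + h a' b)
    (hr : ∀ a b b', h a (b + b') = h a b + h a b')
    (ht : ∀ t a b, h (t * a) (t * b) = t * h a b) (h11 : h 1 1 = 0) (a b : F) : h a b = 0 := by
  have e := pair_sq hl hr ht a b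
  rw [h11, zero_pow two_ne_zero, zero_mul] at e
  exact eq_zero_of_pow_eq_zero e

/-- A quadratic map of weight one on the plane. -/
theorem quad_eq [Finite F] (hl : ∀ a a' b, h (a + a') b = h a b + h a' b)
    (hr : ∀ a b b', h a (b + b') = h a b + h a b') {s : F → F → F}
    (hs : ∀ a b, s a b = s a 0 + s 0 b + h a b)
    (hst : ∀ t a b, s (t * a) (t * b) = t * s a b) :
    (∀ t a b, h (t * a) (t * b) = t * h a b) ∧
      ∀ a b, s a b ^ 2 = s 1 0 ^ 2 * a ^ 2 + h 1 1 ^ 2 * (a * b) + s 0 1 ^ 2 * b ^ 2 := by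
  have ht : ∀ t a b, h (t * a) (t * b) = t * h a b := fun t a b => by
    have e := hst t a b
    have ea := hst t a 0
    have eb := hst t 0 b
    rw [mul_zero] at ea eb
    rw [hs, hs a b, ea, eb] at e
    linear_combination e
  refine ⟨ht, fun a b => ?_⟩
  have ea := hst a 1 0
  have eb := hst b 0 1
  rw [mul_one, mul_zero] at ea eb
  rw [hs a b, ea, eb, CharTwo.add_sq, CharTwo.add_sq, pair_sq hl hr ht a b]
  ring

end Pairing

section Descent

variable {H : Type u} [Group H] {G : Type v} [Group G]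

theorem map_one_zero {θ : H → F} (θm : ∀ x y, θ (x * y) = θ x + θ y) : θ 1 = 0 := by
  have e := θm 1 1
  rw [one_mul] at e
  exact left_eq_add.1 e

theorem map_inv_eq {θ : H → F} (θm : ∀ x y, θ (x * y) = θ x + θ y) (x : H) : θ x⁻¹ = θ x := by
  have e := θm x⁻¹ x
  rw [inv_mul_cancel, map_one_zero θm] at e
  exact CharTwo.add_eq_zero.1 e.symm

/-- A pairing of weight one only depends on the coordinates. -/
theorem descend {lam : F} (hlam : ∀ t : F, t ≠ 0 → ∃ k : ℕ, lam ^ k = t)
    (θ : H → F) (η : G → F)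
    (θm : ∀ x y, θ (x * y) = θ x + θ y) (ηm : ∀ x y, η (x * y) = η x + η y)
    (θs : Function.Surjective θ) (ηs : Function.Surjective η)
    (β : H → G → F)
    (βl : ∀ w w' x, β (w * w') x = β w x + β w' x) (βr : ∀ w x x', β w (x * x') = β w x + β w x')
    (kl : ∀ w x, θ w = 0 → β w x = 0) (kr : ∀ w x, η x = 0 → β w x = 0)
    (σH : H → H) (σG : G → G) (θσ : ∀ w, θ (σH w) = lam * θ w) (ησ : ∀ x, η (σG x) = lam * η x)
    (βσ : ∀ w x, β (σH w) (σG x) = lam * β w x) :
    ∃ h : F → F → F, (∀ a a' b, h (a + a') b = h a b + h a' b) ∧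
      (∀ a b b', h a (b + b') = h a b + h a b') ∧
      (∀ t a b, h (t * a) (t * b) = t * h a b) ∧ ∀ w x, β w x = h (θ w) (η x) := by
  classical
  obtain ⟨sθ, hsθ⟩ := θs.hasRightInverse
  obtain ⟨sη, hsη⟩ := ηs.hasRightInverse
  have key : ∀ w x, β w x = β (sθ (θ w)) (sη (η x)) := fun w x => by
    have e1 : θ (w * (sθ (θ w))⁻¹) = 0 := by
      rw [θm, map_inv_eq θm, hsθ, CharTwo.add_self_eq_zero]
    have e2 : η (x * (sη (η x))⁻¹) = 0 := by
      rw [ηm, map_inv_eq ηm, hsη, CharTwo.add_self_eq_zero]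
    have f1 := βl (w * (sθ (θ w))⁻¹) (sθ (θ w)) x
    rw [inv_mul_cancel_right, kl _ _ e1, zero_add] at f1
    have f2 := βr (sθ (θ w)) (x * (sη (η x))⁻¹) (sη (η x))
    rw [inv_mul_cancel_right, kr _ _ e2, zero_add] at f2
    rw [f1, f2]
  refine ⟨fun a b => β (sθ a) (sη b), fun a a' b => ?_, fun a b b' => ?_, fun t a b => ?_, key⟩
  · have e := key (sθ a * sθ a') (sη b)
    rw [θm, hsθ, hsθ, hsη, βl] at e
    exact e.symm
  · have e := key (sθ a) (sη b * sη b')
    rw [ηm, hsη, hsη, hsθ, βr] at e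
    exact e.symm
  · rcases eq_or_ne t 0 with rfl | ht
    · simp only [zero_mul]
      exact kl _ _ (hsθ 0)
    obtain ⟨k, rfl⟩ := hlam t ht
    clear ht
    induction k with
    | zero => simp
    | succ k ih =>
      show β (sθ _) (sη _) = lam ^ (k + 1) * _
      have e := βσ (sθ (lam ^ k * a)) (sη (lam ^ k * b))
      rw [key, θσ, ησ, hsθ, hsη] at e
      rw [pow_succ', mul_assoc, mul_assoc, mul_assoc, e]
      exact congrArg (lam * ·) ih

theorem alt_trivial [Finite F] {lam : F} (hlam : ∀ t : F, t ≠ 0 → ∃ k : ℕ, lam ^ k = t)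
    (θ : H → F) (θm : ∀ x y, θ (x * y) = θ x + θ y) (θs : Function.Surjective θ)
    (β : H → H → F)
    (βl : ∀ w w' x, β (w * w') x = β w x + β w' x) (βr : ∀ w x x', β w (x * x') = β w x + β w x')
    (kl : ∀ w x, θ w = 0 → β w x = 0) (kr : ∀ w x, θ x = 0 → β w x = 0)
    (σH : H → H) (θσ : ∀ w, θ (σH w) = lam * θ w)
    (βσ : ∀ w x, β (σH w) (σH x) = lam * β w x) (halt : ∀ x, β x x = 0) (w x : H) :
    β w x = 0 := by
  obtain ⟨h, hl, hr, ht, hh⟩ := descend hlam θ θ θm θm θs θs β βl βr kl kr σH σH θσ θσ βσ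
  obtain ⟨y, hy⟩ := θs 1
  rw [hh]
  refine pair_eq_zero hl hr ht ?_ _ _
  rw [← hy, ← hh]
  exact halt y

theorem pairing_symm {lam : F} (hlam : ∀ t : F, t ≠ 0 → ∃ k : ℕ, lam ^ k = t)
    (θ : H → F) (θm : ∀ x y, θ (x * y) = θ x + θ y) (θs : Function.Surjective θ)
    (β : H → H → F)
    (βl : ∀ w w' x, β (w * w') x = β w x + β w' x) (βr : ∀ w x x', β w (x * x') = β w x + β w x')
    (kl : ∀ w x, θ w = 0 → β w x = 0) (kr : ∀ w x, θ x = 0 → β w x = 0)
    (σH : H → H) (θσ : ∀ w, θ (σH w) = lam * θ w)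
    (βσ : ∀ w x, β (σH w) (σH x) = lam * β w x) (w x : H) :
    β w x = β x w := by
  obtain ⟨h, hl, hr, ht, hh⟩ := descend hlam θ θ θm θm θs θs β βl βr kl kr σH σH θσ θσ βσ
  rw [hh, hh, pair_comm hl hr ht]

end Descent

section Section

variable {A : Type u} [AddCommGroup A]

/-- A surjection onto the field has an equivariant additive section. -/
theorem equivariant_section (htwo : ∀ a : A, a + a = 0) (η : A →+ F) (hη : Function.Surjective η)
    (r : A →+ A) {lam : F} (hlam0 : lam ≠ 0) {m : ℕ} (hm : Odd m) (hlm : lam ^ m = 1)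
    (hrm : ∀ a, (⇑r)^[m] a = a) (hηr : ∀ a, η (r a) = lam * η a) :
    ∃ σ : F →+ A, (∀ a, η (σ a) = a) ∧ ∀ a, σ (lam * a) = r (σ a) := by
  classical
  haveI : Fact (Nat.Prime 2) := ⟨Nat.prime_two⟩
  letI : Module (ZMod 2) A := AddCommGroup.zmodModule fun a => by rw [two_nsmul]; exact htwo a
  letI : Module (ZMod 2) F := AddCommGroup.zmodModule fun a => by
    rw [two_nsmul]; exact CharTwo.add_self_eq_zero a
  obtain ⟨g, hg⟩ := (η.toZModLinearMap 2).exists_rightInverse_of_surjective
    (LinearMap.range_eq_top.2 hη)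
  have hg' : ∀ a, η (g a) = a := fun a => LinearMap.congr_fun hg a
  have hiter : ∀ (k : ℕ) a, η ((⇑r)^[k] a) = lam ^ k * η a := by
    intro k
    induction k with
    | zero => simp
    | succ k ih => intro a; rw [Function.iterate_succ_apply', hηr, ih, pow_succ', mul_assoc]
  let σ : F →+ A :=
    { toFun := fun a => ∑ k ∈ Finset.range m, (⇑r)^[k] (g ((lam ^ k)⁻¹ * a))
      map_zero' := by simp [iterate_map_zero]
      map_add' := fun a b => by
        simp [mul_add, iterate_map_add, Finset.sum_add_distrib] }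
  refine ⟨σ, fun a => ?_, fun a => ?_⟩
  · show η (∑ k ∈ Finset.range m, _) = a
    rw [map_sum]
    have e : ∀ k ∈ Finset.range m, η ((⇑r)^[k] (g ((lam ^ k)⁻¹ * a))) = a := fun k _ => by
      rw [hiter, hg', mul_inv_cancel_left₀ (pow_ne_zero _ hlam0)]
    rw [Finset.sum_congr rfl e, Finset.sum_const, Finset.card_range]
    obtain ⟨j, rfl⟩ := hm
    rw [add_nsmul, one_nsmul, mul_nsmul, two_nsmul, CharTwo.add_self_eq_zero]
    simp
  · show ∑ k ∈ Finset.range m, _ = r (∑ k ∈ Finset.range m, _)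
    rw [map_sum]
    let f : ℕ → A := fun k => (⇑r)^[k] (g ((lam ^ k)⁻¹ * (lam * a)))
    have e1 : ∀ k ∈ Finset.range m, r ((⇑r)^[k] (g ((lam ^ k)⁻¹ * a))) = f (k + 1) := fun k _ => by
      show _ = (⇑r)^[k + 1] (g ((lam ^ (k + 1))⁻¹ * (lam * a)))
      rw [Function.iterate_succ_apply']
      congr 3
      field_simp
      ring
    rw [Finset.sum_congr rfl e1]
    have e2 := (Finset.sum_range_succ f m).symm.trans (Finset.sum_range_succ' f m)
    have e3 : f m = f 0 := by
      show (⇑r)^[m] _ = (⇑r)^[0] _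
      rw [hrm, hlm, Function.iterate_zero_apply, pow_zero]
    rw [e3] at e2
    exact add_right_cancel e2

end Section

/-- An isotropic binary quadratic form is a product of two linear forms. -/
theorem split_form {A c B : F} (hc : c ≠ 0) [Finite F] (hiso : ∃ a b : F, (a ≠ 0 ∨ b ≠ 0) ∧
      A * a ^ 2 + c * (a * b) + B * b ^ 2 = 0) :
    ∃ θ : F × F ≃+ F × F, ∀ v : F × F,
      A * v.1 ^ 2 + c * (v.1 * v.2) + B * v.2 ^ 2 = c * ((θ v).1 * (θ v).2) := by
  obtain ⟨a0, b0, h0, heq⟩ := hiso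
  have h2 : (2 : F) = 0 := CharTwo.two_eq_zero
  by_cases hA : A = 0
  · subst hA
    let θ : F × F →+ F × F := AddMonoidHom.mk' (fun v => (v.2, B / c * v.2 + v.1)) fun v w => by
      simp [mul_add, add_add_add_comm]
    refine ⟨AddEquiv.ofBijective θ (Finite.injective_iff_bijective.1 fun v w e => ?_), fun v => ?_⟩
    · have e1 : v.2 = w.2 := congrArg Prod.fst e
      have e2 : B / c * v.2 + v.1 = B / c * w.2 + w.1 := congrArg Prod.snd e
      rw [e1] at e2
      exact Prod.ext (add_left_cancel e2) e1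
    · show _ = c * (v.2 * (B / c * v.2 + v.1))
      field_simp
      ring
  · have hb : b0 ≠ 0 := by
      rintro rfl
      simp only [mul_zero, zero_pow two_ne_zero, add_zero, mul_eq_zero, hA, false_or,
        pow_eq_zero_iff two_ne_zero] at heq
      simp_all
    set r := a0 / b0 with hrdef
    have hr : A * r ^ 2 + c * r + B = 0 := by
      rw [hrdef]
      field_simp
      linear_combination heq
    let θ : F × F →+ F × F := AddMonoidHom.mk'
      (fun v => (v.1 + r * v.2, (A * v.1 + (c + A * r) * v.2) / c)) fun v w => by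
      ext <;> simp <;> ring
    refine ⟨AddEquiv.ofBijective θ (Finite.injective_iff_bijective.1 ?_), fun v => ?_⟩
    · refine (injective_iff_map_eq_zero θ).2 fun v hv => ?_
      have e1 : v.1 + r * v.2 = 0 := congrArg Prod.fst hv
      have e2 : (A * v.1 + (c + A * r) * v.2) / c = 0 := congrArg Prod.snd hv
      rw [div_eq_zero_iff, or_iff_left hc] at e2
      have e3 : c * v.2 = 0 := by linear_combination e2 - A * e1
      have e4 : v.2 = 0 := (mul_eq_zero.1 e3).resolve_left hc
      rw [e4, mul_zero, add_zero] at e1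
      exact Prod.ext e1 e4
    · show _ = c * ((v.1 + r * v.2) * ((A * v.1 + (c + A * r) * v.2) / c))
      field_simp
      linear_combination (v.2 ^ 2) * hr - (A * r * v.1 * v.2 + A * r ^ 2 * v.2 ^ 2 + c * r * v.2 ^ 2) * h2

end Cfsg.Agent.LSType
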