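/-
2-groups with an involutory automorphism whose fixed points form a module of weight one.
-/
import Cfsg.Agent.Lib.LSType.Alg
import Cfsg.Agent.Lib.Suzuki2.Coord

set_option autoImplicit false
set_option linter.unusedSectionVars false
set_option linter.style.haveILetI false

namespace Cfsg.Agent.LSType

open scoped commutatorElement

universe u w

variable {Q : Type u} [Group Q]

theorem comm_mul_left {x y z : Q} (h : ⁅y, z⁆ ∈ Subgroup.center Q) :
    ⁅x * y, z⁆ = ⁅x, z⁆ * ⁅y, z⁆ := by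
  have e : ⁅x * y, z⁆ = x * ⁅y, z⁆ * x⁻¹ * ⁅x, z⁆ := by
    simp only [commutatorElement_def, mul_inv_rev]; group
  rw [e, Subgroup.mem_center_iff.1 h x, mul_inv_cancel_right,
    Subgroup.mem_center_iff.1 h ⁅x, z⁆]

theorem comm_mul_right {x y z : Q} (h : ⁅x, z⁆ ∈ Subgroup.center Q) :
    ⁅x, y * z⁆ = ⁅x, y⁆ * ⁅x, z⁆ := by
  have e : ⁅x, y * z⁆ = ⁅x, y⁆ * (y * ⁅x, z⁆ * y⁻¹) := by
    simp only [commutatorElement_def, mul_inv_rev]; group
  rw [e, Subgroup.mem_center_iff.1 h y, mul_inv_cancel_right]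

/-- An involutory automorphism of a 2-group fixes a central involution. -/
theorem exists_fixed_central [Finite Q] [Nontrivial Q] (hQ : IsPGroup 2 Q) (α : MulAut Q)
    (hinv : ∀ x, α (α x) = x) : ∃ z ∈ Subgroup.center Q, z ≠ 1 ∧ α z = z := by
  haveI : Fact (Nat.Prime 2) := ⟨Nat.prime_two⟩
  haveI := hQ.center_nontrivial
  obtain ⟨n, hn⟩ := IsPGroup.iff_card.1 (hQ.to_subgroup (Subgroup.center Q))
  have h2 : 2 ∣ Nat.card (Subgroup.center Q) := by
    have h1 : 1 < Nat.card (Subgroup.center Q) := Finite.one_lt_card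
    rw [hn] at h1 ⊢
    exact dvd_pow_self 2 (fun h0 => by rw [h0] at h1; simp at h1)
  obtain ⟨⟨z, hz⟩, hzo⟩ := exists_prime_orderOf_dvd_card' 2 h2
  have hz2 : z * z = 1 := by
    have e := pow_orderOf_eq_one (⟨z, hz⟩ : Subgroup.center Q)
    rw [hzo, pow_two] at e
    exact congrArg Subtype.val e
  have hz1 : z ≠ 1 := by
    rintro rfl
    have : orderOf (1 : Subgroup.center Q) = 2 := hzo
    simp at this
  by_cases hfix : α z = z
  · exact ⟨z, hz, hz1, hfix⟩
  refine ⟨z * α z, ?_, fun e => hfix ?_, ?_⟩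
  · refine mul_mem hz (Subgroup.mem_center_iff.2 fun g => α.symm.injective ?_)
    simp only [map_mul, MulEquiv.symm_apply_apply]
    exact Subgroup.mem_center_iff.1 hz _
  · rw [← inv_eq_of_mul_eq_one_right e, inv_eq_of_mul_eq_one_right hz2]
  · rw [map_mul, hinv, ← Subgroup.mem_center_iff.1 hz]

/-- The hypotheses. -/
structure Hyp (Q : Type u) [Group Q] (n : ℕ) where
  α : MulAut Q
  ρ : MulAut Q
  comm : ∀ x, α (ρ x) = ρ (α x)
  invol : ∀ x, α (α x) = x
  per : ρ ^ (2 ^ n - 1) = 1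
  pgroup : IsPGroup 2 Q
  finite : Finite Q
  two_le : 2 ≤ n
  card_fix : Nat.card {x : Q // α x = x} = 2 ^ n
  fix_sq : ∀ x, α x = x → x * x = 1
  trans : ∀ x y, α x = x → α y = y → x ≠ 1 → y ≠ 1 → ∃ k : ℕ, (ρ ^ k) x = y

variable {n : ℕ}

namespace Hyp

variable (H : Hyp Q n)

/-- The fixed points. -/
def C : Subgroup Q where
  carrier := {x | H.α x = x}
  one_mem' := map_one _
  mul_mem' := fun {a b} (ha : H.α a = a) (hb : H.α b = b) => by
    show H.α (a * b) = a * b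
    rw [map_mul, ha, hb]
  inv_mem' := fun {a} (ha : H.α a = a) => by
    show H.α a⁻¹ = a⁻¹
    rw [map_inv, ha]

theorem mem_C {x : Q} : x ∈ H.C ↔ H.α x = x := Iff.rfl

theorem card_C : Nat.card H.C = 2 ^ n := H.card_fix

include H in
theorem four_le : 4 ≤ 2 ^ n :=
  le_trans (by norm_num) (Nat.pow_le_pow_right two_pos H.two_le)

theorem exists_mem_C_ne_one : ∃ c ∈ H.C, c ≠ 1 := by
  haveI := H.finite
  haveI : Nontrivial H.C := Finite.one_lt_card_iff_nontrivial.1 (by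
    rw [H.card_C]; have := H.four_le; omega)
  obtain ⟨c, hc⟩ := exists_ne (1 : H.C)
  exact ⟨c, c.2, fun e => hc (Subtype.ext e)⟩

theorem alpha_rho_pow (k : ℕ) (x : Q) : H.α ((H.ρ ^ k) x) = (H.ρ ^ k) (H.α x) := by
  induction k generalizing x with
  | zero => simp
  | succ k ih => rw [pow_succ, MulAut.mul_apply, MulAut.mul_apply, ih, H.comm]

theorem rho_pow_mem_C {x : Q} (k : ℕ) (hx : x ∈ H.C) : (H.ρ ^ k) x ∈ H.C := by
  rw [mem_C, alpha_rho_pow, H.mem_C.1 hx]

theorem rho_mem_C {x : Q} (hx : x ∈ H.C) : H.ρ x ∈ H.C := by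
  simpa using H.rho_pow_mem_C 1 hx

theorem rho_symm_mem_C {x : Q} (hx : x ∈ H.C) : H.ρ.symm x ∈ H.C := by
  rw [mem_C]
  apply H.ρ.injective
  rw [← H.comm, MulEquiv.apply_symm_apply, H.mem_C.1 hx]

theorem C_le_center : H.C ≤ Subgroup.center Q := by
  haveI := H.finite
  obtain ⟨c, hc, hc1⟩ := H.exists_mem_C_ne_one
  haveI : Nontrivial Q := ⟨⟨c, 1, hc1⟩⟩
  obtain ⟨z, hz, hz1, hzf⟩ := exists_fixed_central H.pgroup H.α H.invol
  intro x hx
  rcases eq_or_ne x 1 with rfl | hx1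
  · exact one_mem _
  obtain ⟨k, rfl⟩ := H.trans z x hzf hx hz1 hx1
  refine Subgroup.mem_center_iff.2 fun g => (H.ρ ^ k).symm.injective ?_
  simp only [map_mul, MulEquiv.symm_apply_apply]
  exact Subgroup.mem_center_iff.1 hz _

instance C_normal : H.C.Normal :=
  ⟨fun x hx g => by
    rw [Subgroup.mem_center_iff.1 (H.C_le_center hx) g, mul_inv_cancel_right]; exact hx⟩

theorem comm_C {x : Q} (hx : x ∈ H.C) (g : Q) : g * x = x * g :=
  Subgroup.mem_center_iff.1 (H.C_le_center hx) g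

theorem comm_of_forall_mem (h : ∀ x, x ∈ H.C) (x y : Q) : x * y = y * x := H.comm_C (h y) x

theorem mk_eq_iff {x y : Q} : (x : Q ⧸ H.C) = y ↔ x⁻¹ * y ∈ H.C := QuotientGroup.eq

theorem mk_eq_one {x : Q} : (x : Q ⧸ H.C) = 1 ↔ x ∈ H.C := QuotientGroup.eq_one_iff x

/-- The map `x ↦ x⁻¹ α x`. -/
def phi (x : Q) : Q := x⁻¹ * H.α x

theorem phi_eq_one {x : Q} : H.phi x = 1 ↔ x ∈ H.C := by
  rw [phi, inv_mul_eq_one, mem_C, eq_comm]

theorem phi_one : H.phi 1 = 1 := by simp [phi]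

theorem alpha_phi (x : Q) : H.α (H.phi x) = (H.phi x)⁻¹ := by
  simp [phi, H.invol]

theorem alpha_eq (x : Q) : H.α x = x * H.phi x := by simp [phi]

theorem phi_rho (x : Q) : H.phi (H.ρ x) = H.ρ (H.phi x) := by simp [phi, H.comm]

theorem phi_rho_pow (k : ℕ) (x : Q) : H.phi ((H.ρ ^ k) x) = (H.ρ ^ k) (H.phi x) := by
  simp [phi, H.alpha_rho_pow]

theorem phi_mul' (x y : Q) : H.phi (x * y) = y⁻¹ * H.phi x * y * H.phi y := by
  simp only [phi, map_mul, mul_inv_rev]; group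

theorem phi_mul {x : Q} (hx : H.phi x ∈ Subgroup.center Q) (y : Q) :
    H.phi (x * y) = H.phi x * H.phi y := by
  rw [phi_mul', Subgroup.mem_center_iff.1 hx y⁻¹, inv_mul_cancel_right]

theorem phi_mul_of_mem {x : Q} (hx : H.phi x ∈ H.C) (y : Q) :
    H.phi (x * y) = H.phi x * H.phi y := H.phi_mul (H.C_le_center hx) y

theorem phi_inv_of_mem {x : Q} (hx : H.phi x ∈ H.C) : H.phi x⁻¹ = (H.phi x)⁻¹ := by
  refine eq_inv_of_mul_eq_one_right ?_
  rw [← H.phi_mul_of_mem hx, mul_inv_cancel, phi_one]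

theorem phi_mul_C {c : Q} (hc : c ∈ H.C) (x : Q) : H.phi (x * c) = H.phi x := by
  rw [H.phi_mul', H.phi_eq_one.2 hc, mul_one, mul_assoc, H.comm_C hc, ← mul_assoc,
    inv_mul_cancel, one_mul]

theorem C_inv {c : Q} (hc : c ∈ H.C) : c⁻¹ = c := inv_eq_of_mul_eq_one_right (H.fix_sq c hc)

/-- The elements whose image is a fixed point of the quotient. -/
def Q2 : Subgroup Q where
  carrier := {x | H.phi x ∈ H.C}
  one_mem' := by show H.phi 1 ∈ H.C; rw [phi_one]; exact one_mem _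
  mul_mem' := fun {a b} (ha : H.phi a ∈ H.C) (hb : H.phi b ∈ H.C) => by
    show H.phi (a * b) ∈ H.C
    rw [H.phi_mul_of_mem ha]; exact mul_mem ha hb
  inv_mem' := fun {a} (ha : H.phi a ∈ H.C) => by
    show H.phi a⁻¹ ∈ H.C
    rw [H.phi_inv_of_mem ha]; exact inv_mem ha

theorem mem_Q2 {x : Q} : x ∈ H.Q2 ↔ H.phi x ∈ H.C := Iff.rfl

theorem mem_Q2_of_mem_C {x : Q} (hx : x ∈ H.C) : x ∈ H.Q2 := by
  rw [mem_Q2, H.phi_eq_one.2 hx]; exact one_mem _

theorem rho_mem_Q2 {x : Q} (hx : x ∈ H.Q2) : H.ρ x ∈ H.Q2 := by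
  rw [mem_Q2, phi_rho]; exact H.rho_mem_C hx

/-- The automorphism of the quotient. -/
def αbar : MulAut (Q ⧸ H.C) :=
  QuotientGroup.congr H.C H.C H.α (by
    ext x
    constructor
    · rintro ⟨y, hy, rfl⟩
      show H.α y ∈ H.C
      rw [H.mem_C.1 hy]; exact hy
    · exact fun hx => ⟨x, hx, hx⟩)

/-- The automorphism of order prime to two of the quotient. -/
def ρbar : MulAut (Q ⧸ H.C) :=
  QuotientGroup.congr H.C H.C H.ρ (by
    ext x
    constructor
    · rintro ⟨y, hy, rfl⟩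
      exact H.rho_mem_C hy
    · exact fun hx => ⟨H.ρ.symm x, H.rho_symm_mem_C hx, H.ρ.apply_symm_apply x⟩)

theorem αbar_mk (x : Q) : H.αbar x = ((H.α x : Q) : Q ⧸ H.C) := rfl

theorem ρbar_mk (x : Q) : H.ρbar x = ((H.ρ x : Q) : Q ⧸ H.C) := rfl

theorem ρbar_pow_mk (k : ℕ) (x : Q) : (H.ρbar ^ k) x = (((H.ρ ^ k) x : Q) : Q ⧸ H.C) := by
  induction k generalizing x with
  | zero => rfl
  | succ k ih => rw [pow_succ, pow_succ, MulAut.mul_apply, MulAut.mul_apply, ρbar_mk, ih]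

theorem αbar_fix {x : Q} : H.αbar x = x ↔ x ∈ H.Q2 := by
  rw [αbar_mk, eq_comm, mk_eq_iff, mem_Q2, phi]

theorem exists_mem_Q2 (hne : ∃ x, x ∉ H.C) : ∃ x ∈ H.Q2, x ∉ H.C := by
  haveI := H.finite
  obtain ⟨x, hx⟩ := hne
  haveI : Nontrivial (Q ⧸ H.C) := ⟨⟨x, 1, fun e => hx (H.mk_eq_one.1 e)⟩⟩
  obtain ⟨z, -, hz1, hzf⟩ := exists_fixed_central (H.pgroup.to_quotient H.C) H.αbar (fun y => by
    induction y using QuotientGroup.induction_on with
    | H y => rw [αbar_mk, αbar_mk, H.invol])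
  induction z using QuotientGroup.induction_on with
  | H z => exact ⟨z, H.αbar_fix.1 hzf, fun e => hz1 (H.mk_eq_one.2 e)⟩

theorem exists_phi_eq (hne : ∃ x, x ∉ H.C) {c : Q} (hc : c ∈ H.C) : ∃ w ∈ H.Q2, H.phi w = c := by
  rcases eq_or_ne c 1 with rfl | hc1
  · exact ⟨1, one_mem _, H.phi_one⟩
  obtain ⟨x, hx, hxC⟩ := H.exists_mem_Q2 hne
  obtain ⟨k, hk⟩ := H.trans (H.phi x) c hx hc (fun e => hxC (H.phi_eq_one.1 e)) hc1
  refine ⟨(H.ρ ^ k) x, ?_, by rw [phi_rho_pow, hk]⟩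
  rw [mem_Q2, phi_rho_pow, hk]; exact hc

theorem mk_eq_of_phi_eq {x y : Q} (hx : x ∈ H.Q2) (e : H.phi x = H.phi y) :
    (x : Q ⧸ H.C) = y := by
  rw [mk_eq_iff, ← H.phi_eq_one,
    H.phi_mul_of_mem (by rw [H.phi_inv_of_mem hx]; exact inv_mem hx), H.phi_inv_of_mem hx, e,
    inv_mul_cancel]

theorem card_fix_bar (hne : ∃ x, x ∉ H.C) :
    Nat.card {y : Q ⧸ H.C // H.αbar y = y} = 2 ^ n := by
  rw [← H.card_C]
  symm
  have hw : ∀ c : H.C, ∃ w ∈ H.Q2, H.phi w = c := fun c => H.exists_phi_eq hne c.2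
  choose w hw2 hwφ using hw
  refine Nat.card_eq_of_bijective
    (fun c : H.C => (⟨(w c : Q ⧸ H.C), H.αbar_fix.2 (hw2 c)⟩ : {y : Q ⧸ H.C // H.αbar y = y}))
    ⟨fun c d e => ?_, fun y => ?_⟩
  · have e' : (w c : Q ⧸ H.C) = w d := congrArg Subtype.val e
    rw [mk_eq_iff] at e'
    refine Subtype.ext ?_
    rw [← hwφ c, ← hwφ d]
    calc H.phi (w c) = H.phi (w c * ((w c)⁻¹ * w d)) := (H.phi_mul_C e' (w c)).symm
      _ = H.phi (w d) := by rw [mul_inv_cancel_left]
  · obtain ⟨y, hy⟩ := y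
    induction y using QuotientGroup.induction_on with
    | H y =>
      exact ⟨⟨H.phi y, H.αbar_fix.1 hy⟩, Subtype.ext
        (H.mk_eq_of_phi_eq (hw2 _) (hwφ ⟨H.phi y, H.αbar_fix.1 hy⟩))⟩

/-- The hypotheses pass to the quotient. -/
def quot (hne : ∃ x, x ∉ H.C) : Hyp (Q ⧸ H.C) n where
  α := H.αbar
  ρ := H.ρbar
  comm := fun y => by
    induction y using QuotientGroup.induction_on with
    | H y => rw [ρbar_mk, αbar_mk, αbar_mk, ρbar_mk, H.comm]
  invol := fun y => by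
    induction y using QuotientGroup.induction_on with
    | H y => rw [αbar_mk, αbar_mk, H.invol]
  per := by
    refine MulEquiv.ext fun y => ?_
    induction y using QuotientGroup.induction_on with
    | H y => rw [ρbar_pow_mk, H.per]; rfl
  pgroup := H.pgroup.to_quotient H.C
  finite := by haveI := H.finite; exact Quotient.finite _
  two_le := H.two_le
  card_fix := H.card_fix_bar hne
  fix_sq := fun y hy => by
    induction y using QuotientGroup.induction_on with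
    | H y =>
      have hy' : y ∈ H.Q2 := H.αbar_fix.1 hy
      rw [← QuotientGroup.mk_mul, mk_eq_one, ← H.phi_eq_one, H.phi_mul_of_mem hy']
      exact H.fix_sq _ hy'
  trans := fun a b ha hb ha1 hb1 => by
    induction a using QuotientGroup.induction_on with
    | H a =>
      induction b using QuotientGroup.induction_on with
      | H b =>
        have ha' : a ∈ H.Q2 := H.αbar_fix.1 ha
        have hb' : b ∈ H.Q2 := H.αbar_fix.1 hb
        obtain ⟨k, hk⟩ := H.trans (H.phi a) (H.phi b) ha' hb'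
          (fun e => ha1 (H.mk_eq_one.2 (H.phi_eq_one.1 e)))
          (fun e => hb1 (H.mk_eq_one.2 (H.phi_eq_one.1 e)))
        refine ⟨k, ?_⟩
        rw [ρbar_pow_mk]
        refine H.mk_eq_of_phi_eq ?_ (by rw [phi_rho_pow, hk])
        rw [mem_Q2, phi_rho_pow, hk]; exact hb'

theorem quot_mem_C (hne : ∃ x, x ∉ H.C) {x : Q} : (x : Q ⧸ H.C) ∈ (H.quot hne).C ↔ x ∈ H.Q2 :=
  H.αbar_fix

theorem quot_phi (hne : ∃ x, x ∉ H.C) (x : Q) :
    (H.quot hne).phi (x : Q ⧸ H.C) = ((H.phi x : Q) : Q ⧸ H.C) := rfl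

end Hyp

/-- Coordinates on the fixed points. -/
structure Coord (H : Hyp Q n) (F : Type w) [Field F] where
  co : Q → F
  lam : F
  hlam : ∀ t : F, t ≠ 0 → ∃ k : ℕ, lam ^ k = t
  lam_ne : lam ≠ 0
  lam_per : lam ^ (2 ^ n - 1) = 1
  co_mul : ∀ x ∈ H.C, ∀ y ∈ H.C, co (x * y) = co x + co y
  co_eq_zero : ∀ x ∈ H.C, co x = 0 → x = 1
  co_surj : ∀ a : F, ∃ x ∈ H.C, co x = a
  co_rho : ∀ x ∈ H.C, co (H.ρ x) = lam * co x

namespace Coord

variable {H : Hyp Q n} {F : Type w} [Field F] (K : Coord H F)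

theorem co_one : K.co 1 = 0 := by
  have e := K.co_mul 1 (one_mem _) 1 (one_mem _)
  rw [one_mul] at e
  exact left_eq_add.1 e

theorem co_inj {x y : Q} (hx : x ∈ H.C) (hy : y ∈ H.C) (e : K.co x = K.co y) : x = y := by
  have h1 := K.co_mul (x * y⁻¹) (mul_mem hx (inv_mem hy)) y hy
  rw [inv_mul_cancel_right, e] at h1
  exact mul_inv_eq_one.1 (K.co_eq_zero _ (mul_mem hx (inv_mem hy)) (right_eq_add.1 h1))

theorem co_rho_pow (k : ℕ) : ∀ x ∈ H.C, K.co ((H.ρ ^ k) x) = K.lam ^ k * K.co x := by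
  induction k with
  | zero => intro x _; simp
  | succ k ih =>
    intro x hx
    rw [pow_succ', MulAut.mul_apply, K.co_rho _ (H.rho_pow_mem_C k hx), ih x hx, pow_succ',
      mul_assoc]

/-- Coordinates on the fixed points of the quotient. -/
noncomputable def quot (hne : ∃ x, x ∉ H.C) : Coord (H.quot hne) F where
  co := fun y => K.co (H.phi y.out)
  lam := K.lam
  hlam := K.hlam
  lam_ne := K.lam_ne
  lam_per := K.lam_per
  co_mul := fun a ha b hb => by
    have e : ∀ (x : Q) (y : Q ⧸ H.C), (x : Q ⧸ H.C) = y → H.phi y.out = H.phi x := by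
      rintro x y rfl
      obtain ⟨c, hc⟩ := QuotientGroup.mk_out_eq_mul H.C x
      rw [hc]
      exact H.phi_mul_C c.2 x
    rw [← QuotientGroup.out_eq' a] at ha
    rw [← QuotientGroup.out_eq' b] at hb
    show K.co (H.phi (a * b).out) = _
    rw [e (a.out * b.out) _ (by simp), H.phi_mul_of_mem ((H.quot_mem_C hne).1 ha),
      K.co_mul _ ((H.quot_mem_C hne).1 ha) _ ((H.quot_mem_C hne).1 hb)]
  co_eq_zero := fun a ha e => by
    rw [← QuotientGroup.out_eq' a] at ha ⊢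
    exact H.mk_eq_one.2 (H.phi_eq_one.1 (K.co_eq_zero _ ((H.quot_mem_C hne).1 ha) e))
  co_surj := fun a => by
    obtain ⟨c, hc, hca⟩ := K.co_surj a
    obtain ⟨w, hw, hwc⟩ := H.exists_phi_eq hne hc
    refine ⟨(w : Q ⧸ H.C), (H.quot_mem_C hne).2 hw, ?_⟩
    show K.co (H.phi _) = a
    obtain ⟨d, hd⟩ := QuotientGroup.mk_out_eq_mul H.C w
    rw [hd, H.phi_mul_C d.2, hwc, hca]
  co_rho := fun a ha => by
    rw [← QuotientGroup.out_eq' a] at ha
    show K.co (H.phi _) = K.lam * K.co (H.phi a.out)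
    have e1 : (H.quot hne).ρ a = ((H.ρ a.out : Q) : Q ⧸ H.C) := by
      conv_lhs => rw [← QuotientGroup.out_eq' a]
      rfl
    rw [e1]
    obtain ⟨d, hd⟩ := QuotientGroup.mk_out_eq_mul H.C (H.ρ a.out)
    rw [hd, H.phi_mul_C d.2, H.phi_rho, K.co_rho _ ((H.quot_mem_C hne).1 ha)]

theorem quot_co_mk (hne : ∃ x, x ∉ H.C) (x : Q) :
    (K.quot hne).co (x : Q ⧸ H.C) = K.co (H.phi x) := by
  show K.co (H.phi _) = _
  obtain ⟨d, hd⟩ := QuotientGroup.mk_out_eq_mul H.C x
  rw [hd, H.phi_mul_C d.2]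

end Coord

theorem exists_coord (H : Hyp Q n) :
    ∃ (F : Type) (_ : Field F) (_ : Fintype F) (_ : CharP F 2),
      Fintype.card F = 2 ^ n ∧ Nonempty (Coord H F) := by
  classical
  haveI := H.finite
  letI : CommGroup H.C :=
    { (inferInstance : Group H.C) with
      mul_comm := fun a b => Subtype.ext (H.comm_C b.2 a) }
  let r : MulAut H.C :=
    { toFun := fun x => ⟨H.ρ x, H.rho_mem_C x.2⟩
      invFun := fun x => ⟨H.ρ.symm x, H.rho_symm_mem_C x.2⟩
      left_inv := fun x => Subtype.ext (H.ρ.symm_apply_apply x)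
      right_inv := fun x => Subtype.ext (H.ρ.apply_symm_apply x)
      map_mul' := fun x y => Subtype.ext (map_mul H.ρ (x : Q) (y : Q)) }
  have hr : ∀ (k : ℕ) (x : H.C), Subtype.val ((r ^ k : MulAut H.C) x) = (H.ρ ^ k) (x : Q) := by
    intro k
    induction k with
    | zero => intro x; rfl
    | succ k ih => intro x; rw [pow_succ, pow_succ, MulAut.mul_apply, MulAut.mul_apply, ih]; rfl
  have hcomm : ∀ k l : Subgroup.zpowers r, k * l = l * k := fun k l => by
    obtain ⟨i, hi⟩ := k.2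
    obtain ⟨j, hj⟩ := l.2
    refine Subtype.ext ?_
    show (k : MulAut H.C) * l = l * k
    rw [← hi, ← hj]
    exact zpow_mul_comm r i j
  let act : Subgroup.zpowers r → Additive H.C → Additive H.C := fun k u =>
    Additive.ofMul ((k : MulAut H.C) u.toMul)
  obtain ⟨c, hc, hc1⟩ := H.exists_mem_C_ne_one
  obtain ⟨E, i1, i2, i3, e, g, hg⟩ := Suzuki2.exists_field act (fun u => rfl) (fun k l u => rfl)
    (fun k u w => Additive.toMul.injective (map_mul (k : MulAut H.C) u.toMul w.toMul))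
    (fun u => Additive.toMul.injective (Subtype.ext (H.fix_sq _ u.toMul.2))) hcomm
    (fun u w hu hw => by
      have hne : ∀ v : Additive H.C, v ≠ 0 → (v.toMul : Q) ≠ 1 := fun v hv e =>
        hv (Additive.toMul.injective (Subtype.ext e))
      have htr : ∀ v v' : Additive H.C, v ≠ 0 → v' ≠ 0 → ∃ k, act k v = v' := fun v v' hv hv' => by
        obtain ⟨k, hk⟩ := H.trans _ _ v.toMul.2 v'.toMul.2 (hne v hv) (hne v' hv')
        exact ⟨⟨r ^ k, k, zpow_natCast r k⟩,
          Additive.toMul.injective (Subtype.ext ((hr k v.toMul).trans hk))⟩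
      obtain ⟨k, hk⟩ := htr u w hu hw
      refine ⟨k, hk, fun l hl => ?_⟩
      refine Subtype.ext (MulEquiv.ext fun x => ?_)
      rcases eq_or_ne (Additive.ofMul x) 0 with h0 | h0
      · rw [show x = 1 from h0, map_one, map_one]
      obtain ⟨p, hp⟩ := htr u _ hu h0
      have hp' : ((p : Subgroup.zpowers r) : MulAut H.C) u.toMul = x :=
        congrArg Additive.toMul hp
      rw [← hp', ← MulAut.mul_apply, ← MulAut.mul_apply, ← Subgroup.coe_mul, ← Subgroup.coe_mul,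
        hcomm l p, hcomm k p, Subgroup.coe_mul, Subgroup.coe_mul, MulAut.mul_apply,
        MulAut.mul_apply]
      exact congrArg _ ((congrArg Additive.toMul hl).trans (congrArg Additive.toMul hk).symm))
    ⟨Additive.ofMul ⟨c, hc⟩, fun e => hc1 (congrArg (fun z : Additive H.C => (z.toMul : Q)) e)⟩
  haveI : Fact (Nat.Prime 2) := ⟨Nat.prime_two⟩
  have hn : n ≠ 0 := by have := H.two_le; omega
  have hcardE : Fintype.card E = 2 ^ n := by
    rw [← Nat.card_eq_fintype_card, ← Nat.card_congr e.toEquiv]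
    exact H.card_C
  letI : Fintype (GaloisField 2 n) := Fintype.ofFinite _
  have hcardG : Fintype.card (GaloisField 2 n) = 2 ^ n := by
    rw [← Nat.card_eq_fintype_card]
    exact GaloisField.card 2 n hn
  let j : E ≃+* GaloisField 2 n := FiniteField.ringEquivOfCardEq (hcardE.trans hcardG.symm)
  refine ⟨GaloisField 2 n, inferInstance, inferInstance, inferInstance, hcardG, ?_⟩
  let co : Q → GaloisField 2 n := fun x => if h : x ∈ H.C then j (e (Additive.ofMul ⟨x, h⟩)) else 0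
  have hco : ∀ x (h : x ∈ H.C), co x = j (e (Additive.ofMul ⟨x, h⟩)) := fun x h => dif_pos h
  let lam : GaloisField 2 n := j (g ⟨r, Subgroup.mem_zpowers r⟩ : E)
  have hρ : ∀ x ∈ H.C, co (H.ρ x) = lam * co x := fun x hx => by
    rw [hco x hx, hco _ (H.rho_mem_C hx), ← map_mul, ← hg]
    rfl
  have hρk : ∀ (k : ℕ) x, x ∈ H.C → co ((H.ρ ^ k) x) = lam ^ k * co x := by
    intro k
    induction k with
    | zero => intro x _; simp
    | succ k ih =>
      intro x hx
      rw [pow_succ', MulAut.mul_apply, hρ _ (H.rho_pow_mem_C k hx), ih x hx, pow_succ', mul_assoc]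
  have hsurj : ∀ a, ∃ x ∈ H.C, co x = a := fun a => by
    refine ⟨((e.symm (j.symm a)).toMul : H.C).1, (e.symm (j.symm a)).toMul.2, ?_⟩
    rw [hco _ (e.symm (j.symm a)).toMul.2, Subtype.coe_eta, ofMul_toMul, e.apply_symm_apply,
      j.apply_symm_apply]
  have hzero : ∀ x ∈ H.C, co x = 0 → x = 1 := fun x hx h0 => by
    rw [hco x hx, map_eq_zero_iff j j.injective, map_eq_zero_iff e e.injective] at h0
    exact congrArg (fun z : Additive H.C => (z.toMul : Q)) h0
  obtain ⟨x1, hx1, hx1e⟩ := hsurj 1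
  have hlam : ∀ t : GaloisField 2 n, t ≠ 0 → ∃ k : ℕ, lam ^ k = t := fun t ht => by
    obtain ⟨x, hx, rfl⟩ := hsurj t
    obtain ⟨k, hk⟩ := H.trans x1 x hx1 hx
      (fun h => by rw [h, hco 1 (one_mem _)] at hx1e
                   exact zero_ne_one ((map_zero j).symm.trans ((congrArg j (map_zero e)).symm.trans hx1e)))
      (fun h => ht (by rw [h, hco 1 (one_mem _)]; exact (congrArg j (map_zero e)).trans (map_zero j)))
    refine ⟨k, ?_⟩
    rw [← hk, hρk k x1 hx1, hx1e, mul_one]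
  refine ⟨{ co := co, lam := lam, hlam := hlam, lam_ne := ?_, lam_per := ?_,
            co_mul := fun x hx y hy => ?_, co_eq_zero := hzero, co_surj := hsurj, co_rho := hρ }⟩
  · exact fun h => (g ⟨r, Subgroup.mem_zpowers r⟩).ne_zero ((map_eq_zero_iff j j.injective).1 h)
  · have e1 := hρk (2 ^ n - 1) x1 hx1
    rw [H.per, MulAut.one_apply, hx1e, mul_one] at e1
    exact e1.symm
  · rw [hco x hx, hco y hy, hco _ (mul_mem hx hy), ← map_add j, ← map_add e]
    rfl

end Cfsg.Agent.LSType
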