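/-
A non-abelian group with the hypotheses has order `q ^ 3`, with elementary quotient by the fixed
points.
-/
import Cfsg.Agent.Lib.LSType.Basic

set_option autoImplicit false
set_option linter.unusedSectionVars false
set_option linter.style.haveILetI false

namespace Cfsg.Agent.LSType

open scoped commutatorElement

universe u w

variable {Q : Type u} [Group Q] {n : ℕ}

theorem exists_order_four (hQ : IsPGroup 2 Q) {x : Q} (hx : x * x ≠ 1) :
    ∃ y : Q, y * y ≠ 1 ∧ (y * y) * (y * y) = 1 := by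
  classical
  have he : ∃ k, x ^ 2 ^ k = 1 := hQ x
  have h0 : Nat.find he ≠ 0 := fun h => by
    have e := Nat.find_spec he
    rw [h, pow_zero, pow_one] at e
    exact hx (by rw [e, one_mul])
  have h1 : Nat.find he ≠ 1 := fun h => by
    have e := Nat.find_spec he
    rw [h, pow_one, pow_two] at e
    exact hx e
  obtain ⟨j, hj⟩ : ∃ j, Nat.find he = j + 2 := ⟨Nat.find he - 2, by omega⟩
  refine ⟨x ^ 2 ^ j, ?_, ?_⟩
  · rw [← pow_two, ← pow_mul, ← pow_succ]
    exact Nat.find_min he (by omega)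
  · rw [← pow_two, ← pow_two, ← pow_mul, ← pow_mul,
      show (2 : ℕ) ^ j * (2 * 2) = 2 ^ (j + 2) by rw [pow_add]; norm_num, ← hj]
    exact Nat.find_spec he

namespace Hyp

variable (H : Hyp Q n)

theorem rho_pow_map {γ : Q → Q} (hγρ : ∀ x, γ (H.ρ x) = H.ρ (γ x)) (k : ℕ) (x : Q) :
    γ ((H.ρ ^ k) x) = (H.ρ ^ k) (γ x) := by
  induction k generalizing x with
  | zero => rfl
  | succ k ih => rw [pow_succ', MulAut.mul_apply, MulAut.mul_apply, hγρ, ih]

theorem range_eq_C {γ : Q → Q} (hγρ : ∀ x, γ (H.ρ x) = H.ρ (γ x)) (h1 : γ 1 = 1) {x0 : Q}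
    (hx0 : γ x0 ∈ H.C) (hx01 : γ x0 ≠ 1) {c : Q} (hc : c ∈ H.C) : ∃ y, γ y = c := by
  rcases eq_or_ne c 1 with rfl | hc1
  · exact ⟨1, h1⟩
  obtain ⟨k, hk⟩ := H.trans _ c hx0 hc hx01 hc1
  exact ⟨(H.ρ ^ k) x0, by rw [H.rho_pow_map hγρ, hk]⟩

/-- The abelian groups with the hypotheses. -/
theorem comm_structure (hcomm : ∀ x y : Q, x * y = y * x) :
    ((∀ x : Q, x * x = 1) ∧ (∀ x, H.phi x ∈ H.C) ∧ (∃ x, x ∉ H.C) ∧
        Nat.card Q = (2 ^ n) * (2 ^ n)) ∨
      ∃ γ : Q →* Q, (∀ x, γ x ∈ H.C) ∧ (∀ x, γ (H.ρ x) = H.ρ (γ x)) ∧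
        (∀ c ∈ H.C, ∃ x, γ x = c) ∧ ∀ x, γ x = 1 → ∃ y, y * y = x := by
  classical
  haveI := H.finite
  letI : CommGroup Q := { (inferInstance : Group Q) with mul_comm := hcomm }
  by_cases hT : ∀ a : Q, a * a = 1 → a ∈ H.C
  · right
    obtain ⟨c0, hc0, hc01⟩ := H.exists_mem_C_ne_one
    -- the last non-trivial power map
    have hex : ∃ m, ∀ x : Q, x ^ 2 ^ (m + 1) = 1 := by
      obtain ⟨N, hN⟩ := IsPGroup.iff_card.1 H.pgroup
      refine ⟨N, fun x => ?_⟩
      rw [pow_succ, pow_mul, ← hN, pow_card_eq_one', one_pow]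
    let γ : Q →* Q := powMonoidHom (2 ^ Nat.find hex)
    have hγ : ∀ x : Q, γ x = x ^ 2 ^ Nat.find hex := fun x => rfl
    have hγsq : ∀ x, γ x * γ x = 1 := fun x => by
      rw [hγ, ← pow_two, ← pow_mul, ← pow_succ]
      exact Nat.find_spec hex x
    have hγC : ∀ x, γ x ∈ H.C := fun x => hT _ (hγsq x)
    have hγρ : ∀ x, γ (H.ρ x) = H.ρ (γ x) := fun x => by rw [hγ, hγ, map_pow]
    obtain ⟨x0, hx0⟩ : ∃ x0, γ x0 ≠ 1 := by
      by_contra hno
      simp only [not_exists, not_not] at hno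
      rcases Nat.eq_zero_or_pos (Nat.find hex) with h0 | hpos
      · apply hc01
        have e := hno c0
        rwa [hγ, h0, pow_zero, pow_one] at e
      · refine Nat.find_min hex (Nat.sub_lt hpos one_pos) fun x => ?_
        rw [show Nat.find hex - 1 + 1 = Nat.find hex by omega]
        exact hno x
    have hsurj : ∀ c ∈ H.C, ∃ x, γ x = c := fun c hc =>
      H.range_eq_C hγρ (map_one γ) (hγC x0) hx0 hc
    refine ⟨γ, hγC, hγρ, hsurj, fun x hx => ?_⟩
    let sq : Q →* Q := powMonoidHom 2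
    have hsqker : sq.ker = H.C := by
      ext a
      rw [MonoidHom.mem_ker]
      show a ^ 2 = 1 ↔ _
      rw [pow_two]
      exact ⟨hT a, H.fix_sq a⟩
    have hγrange : γ.range = H.C := le_antisymm (fun a ⟨b, hb⟩ => hb ▸ hγC b) fun a ha => hsurj a ha
    have hle : sq.range ≤ γ.ker := by
      rintro a ⟨b, rfl⟩
      rw [MonoidHom.mem_ker, hγ]
      show (b ^ 2) ^ _ = 1
      rw [← pow_mul, ← pow_succ']
      exact Nat.find_spec hex b
    have hcard : Nat.card γ.ker = Nat.card sq.range := by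
      have e1 := Subgroup.card_mul_index γ.ker
      have e2 := Subgroup.card_mul_index sq.ker
      rw [Subgroup.index_ker, hγrange, H.card_C] at e1
      rw [Subgroup.index_ker, hsqker, H.card_C] at e2
      refine Nat.eq_of_mul_eq_mul_left (show 0 < 2 ^ n by positivity) ?_
      rw [mul_comm, e1, e2]
    have heq : sq.range = γ.ker := Subgroup.eq_of_le_of_card_ge hle hcard.le
    obtain ⟨y, hy⟩ : x ∈ sq.range := heq ▸ MonoidHom.mem_ker.2 hx
    exact ⟨y, by rw [← pow_two]; exact hy⟩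
  · left
    simp only [not_forall] at hT
    obtain ⟨a, ha, haC⟩ := hT
    let φ : Q →* Q := MonoidHom.mk' H.phi fun x y => by
      simp only [phi, map_mul, mul_inv_rev]
      rw [mul_comm y⁻¹ x⁻¹, mul_mul_mul_comm]
    have hφ : ∀ x, φ x = H.phi x := fun x => rfl
    have hfix : ∀ x, H.phi x * H.phi x = 1 → H.phi x ∈ H.C := fun x hx => by
      rw [mem_C, alpha_phi, inv_eq_of_mul_eq_one_right hx]
    have hφsq : ∀ x, H.phi (x * x) = H.phi x * H.phi x := fun x => map_mul φ x x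
    have hφρ : ∀ x, H.phi (H.ρ x) = H.ρ (H.phi x) := H.phi_rho
    have haC' : H.phi a ∈ H.C := hfix a (by rw [← hφsq, ha, H.phi_one])
    have hsurj2 : ∀ c ∈ H.C, ∃ b, b * b = 1 ∧ H.phi b = c := fun c hc => by
      rcases eq_or_ne c 1 with rfl | hc1
      · exact ⟨1, one_mul 1, H.phi_one⟩
      obtain ⟨k, hk⟩ := H.trans _ c haC' hc (fun e => haC (H.phi_eq_one.1 e)) hc1
      exact ⟨(H.ρ ^ k) a, by rw [← map_mul, ha, map_one], by rw [phi_rho_pow, hk]⟩
    have helem : ∀ x : Q, x * x = 1 := by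
      intro x
      by_contra hx
      obtain ⟨z, hz1, hz2⟩ := exists_order_four H.pgroup hx
      obtain ⟨w, hw1, hwC⟩ : ∃ w : Q, w * w ≠ 1 ∧ w * w ∈ H.C := by
        by_cases hzC : z * z ∈ H.C
        · exact ⟨z, hz1, hzC⟩
        have e : (z * H.α z) * (z * H.α z) = H.phi (z * z) := by
          rw [phi, inv_eq_of_mul_eq_one_right hz2, map_mul, mul_mul_mul_comm]
        refine ⟨z * H.α z, ?_, ?_⟩
        · rw [e, Ne, phi_eq_one]; exact hzC
        · rw [e]
          exact hfix _ (by rw [← hφsq, hz2, H.phi_one])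
      have hwφ : H.phi w ∈ H.C := hfix w (by rw [← hφsq, H.phi_eq_one.2 hwC])
      obtain ⟨b, hb, hbw⟩ := hsurj2 _ hwφ
      apply hw1
      have hmem : w * b⁻¹ ∈ H.C := by
        rw [← H.phi_eq_one, ← hφ, map_mul, map_inv, hφ, hφ, hbw, mul_inv_cancel]
      have e := H.fix_sq _ hmem
      rwa [mul_mul_mul_comm, ← mul_inv, hb, inv_one, mul_one] at e
    have hmem : ∀ x, H.phi x ∈ H.C := fun x => hfix x (helem _)
    refine ⟨helem, hmem, ⟨a, haC⟩, ?_⟩
    have e1 := Subgroup.card_mul_index φ.ker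
    have hk : φ.ker = H.C := by
      ext x; rw [MonoidHom.mem_ker, hφ, H.phi_eq_one]
    have hr : φ.range = H.C := le_antisymm (fun x ⟨b, hb⟩ => hb ▸ hmem b) fun x hx => by
      obtain ⟨b, -, hb⟩ := hsurj2 x hx
      exact ⟨b, hb⟩
    rw [Subgroup.index_ker, hr, hk, H.card_C] at e1
    exact e1.symm

/-- The conclusion for a non-abelian group. -/
def Shape : Prop := (∀ x : Q, x * x ∈ H.C) ∧ Nat.card (Q ⧸ H.C) = 2 ^ n * 2 ^ n

theorem phi_phi_eq (x : Q) : H.phi (H.phi x) = (H.phi x * H.phi x)⁻¹ := by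
  rw [mul_inv_rev]
  show (H.phi x)⁻¹ * H.α (H.phi x) = _
  rw [alpha_phi]

theorem Shape.phi_mem {H : Hyp Q n} (h : H.Shape) (x : Q) : H.phi x ∈ H.Q2 := by
  rw [mem_Q2, phi_phi_eq]
  exact inv_mem (h.1 _)

theorem Shape.ne_top {H : Hyp Q n} (h : H.Shape) : ∃ x, x ∉ H.C := by
  haveI := H.finite
  have h4 := H.four_le
  haveI : Nontrivial (Q ⧸ H.C) := Finite.one_lt_card_iff_nontrivial.1 (by rw [h.2]; nlinarith)
  obtain ⟨y, hy⟩ := exists_ne (1 : Q ⧸ H.C)
  induction y using QuotientGroup.induction_on with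
  | H y => exact ⟨y, fun e => hy (H.mk_eq_one.2 e)⟩

theorem Shape.exists_not_Q2 {H : Hyp Q n} (h : H.Shape) : ∃ x, x ∉ H.Q2 := by
  by_contra hno
  simp only [not_exists, not_not] at hno
  have e := H.card_fix_bar h.ne_top
  have e2 : Nat.card {y : Q ⧸ H.C // H.αbar y = y} = Nat.card (Q ⧸ H.C) := by
    refine Nat.card_congr (Equiv.subtypeUnivEquiv fun y => ?_)
    induction y using QuotientGroup.induction_on with
    | H y => exact H.αbar_fix.2 (hno y)
  rw [e2, h.2] at e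
  have h4 := H.four_le
  nlinarith

theorem Shape.comm_mem {H : Hyp Q n} (h : H.Shape) (x y : Q) : ⁅x, y⁆ ∈ H.C := by
  have hsq : ∀ a : Q ⧸ H.C, a⁻¹ = a := fun a => by
    induction a using QuotientGroup.induction_on with
    | H a => exact inv_eq_of_mul_eq_one_right (H.mk_eq_one.2 (h.1 a))
  rw [← H.mk_eq_one]
  show (x : Q ⧸ H.C) * y * (x : Q ⧸ H.C)⁻¹ * (y : Q ⧸ H.C)⁻¹ = 1
  rw [hsq, hsq]
  have := h.1 (x * y)
  rw [← H.mk_eq_one, QuotientGroup.mk_mul, QuotientGroup.mk_mul, ← mul_assoc] at this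
  exact this

section Eta

variable {F : Type w} [Field F]

/-- The coordinate of the top layer. -/
def eta (K : Coord H F) (x : Q) : F := K.co (H.phi (H.phi x))

variable {H} (h : H.Shape) (K : Coord H F)
include h

theorem Shape.phi_phi_mul (x y : Q) :
    H.phi (H.phi (x * y)) = H.phi (H.phi x) * H.phi (H.phi y) := by
  have e : H.phi (x * y) = H.phi x * H.phi y * ⁅y⁻¹, H.phi x⁆ := by
    rw [H.phi_mul' x y, mul_assoc (H.phi x), H.comm_C (h.comm_mem _ _), ← mul_assoc]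
    rw [show H.phi x * ⁅y⁻¹, H.phi x⁆ = ⁅y⁻¹, H.phi x⁆ * H.phi x from H.comm_C (h.comm_mem _ _) _]
    simp only [commutatorElement_def, inv_inv]
    group
  rw [e, H.phi_mul_C (h.comm_mem _ _), H.phi_mul_of_mem (h.phi_mem x)]

theorem Shape.eta_mul (x y : Q) : H.eta K (x * y) = H.eta K x + H.eta K y := by
  rw [eta, eta, eta, h.phi_phi_mul, K.co_mul _ (h.phi_mem x) _ (h.phi_mem y)]

theorem Shape.eta_eq_zero {x : Q} : H.eta K x = 0 ↔ x ∈ H.Q2 := by
  rw [mem_Q2, ← H.phi_eq_one]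
  exact ⟨K.co_eq_zero _ (h.phi_mem x), fun e => by rw [eta, e, K.co_one]⟩

theorem Shape.eta_surj : Function.Surjective (H.eta K) := by
  intro a
  obtain ⟨c, hc, rfl⟩ := K.co_surj a
  obtain ⟨x0, hx0⟩ := h.exists_not_Q2
  obtain ⟨y, hy⟩ := H.range_eq_C (γ := fun x => H.phi (H.phi x))
    (fun x => by simp only [phi_rho]) (by simp only [phi_one]) (h.phi_mem x0)
    (fun e => hx0 (H.mem_Q2.2 (H.phi_eq_one.1 e))) hc
  exact ⟨y, congrArg K.co hy⟩

theorem Shape.eta_rho (x : Q) : H.eta K (H.ρ x) = K.lam * H.eta K x := by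
  rw [eta, eta, phi_rho, phi_rho, K.co_rho _ (h.phi_mem x)]

theorem Shape.exists_phi_coset {x : Q} (hx : x ∈ H.Q2) : ∃ y, (H.phi y)⁻¹ * x ∈ H.C := by
  obtain ⟨x0, hx0⟩ := h.exists_not_Q2
  obtain ⟨y, hy⟩ := H.range_eq_C (γ := fun x => H.phi (H.phi x))
    (fun x => by simp only [phi_rho]) (by simp only [phi_one]) (h.phi_mem x0)
    (fun e => hx0 (H.mem_Q2.2 (H.phi_eq_one.1 e))) hx
  exact ⟨y, H.mk_eq_iff.1 (H.mk_eq_of_phi_eq (h.phi_mem y) hy)⟩

end Eta

/-- The pairing of `Q2` with itself is trivial. -/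
theorem comm_Q2 {F : Type w} [Field F] [CharP F 2] [Finite F] (K : Coord H F)
    (hne : ∃ x, x ∉ H.C) (hc : ∀ a ∈ H.Q2, ∀ b : Q, ⁅a, b⁆ ∈ H.C) (a b : Q) (ha : a ∈ H.Q2)
    (hb : b ∈ H.Q2) : ⁅a, b⁆ = 1 := by
  refine K.co_eq_zero _ (hc a ha b) ?_
  exact alt_trivial K.hlam (fun w : H.Q2 => K.co (H.phi w))
    (fun w w' => by
      show K.co (H.phi ((w : Q) * w')) = _
      rw [H.phi_mul_of_mem w.2, K.co_mul _ w.2 _ w'.2])
    (fun t => by
      obtain ⟨c, hc', hct⟩ := K.co_surj t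
      obtain ⟨w, hw, hwc⟩ := H.exists_phi_eq hne hc'
      exact ⟨⟨w, hw⟩, by show K.co (H.phi w) = t; rw [hwc, hct]⟩)
    (fun w x => K.co ⁅(w : Q), (x : Q)⁆)
    (fun w w' x => by
      show K.co ⁅(w : Q) * w', (x : Q)⁆ = _
      rw [comm_mul_left (H.C_le_center (hc _ w'.2 _)), K.co_mul _ (hc _ w.2 _) _ (hc _ w'.2 _)])
    (fun w x x' => by
      show K.co ⁅(w : Q), (x : Q) * x'⁆ = _
      rw [comm_mul_right (H.C_le_center (hc _ w.2 _)), K.co_mul _ (hc _ w.2 _) _ (hc _ w.2 _)])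
    (fun w x e => by
      have hw : (w : Q) ∈ H.C := H.phi_eq_one.1 (K.co_eq_zero _ w.2 e)
      show K.co ⁅(w : Q), (x : Q)⁆ = 0
      rw [commutatorElement_eq_one_iff_mul_comm.2 (H.comm_C hw _).symm, K.co_one])
    (fun w x e => by
      have hx : (x : Q) ∈ H.C := H.phi_eq_one.1 (K.co_eq_zero _ x.2 e)
      show K.co ⁅(w : Q), (x : Q)⁆ = 0
      rw [commutatorElement_eq_one_iff_mul_comm.2 (H.comm_C hx _), K.co_one])
    (fun w => ⟨H.ρ w, H.rho_mem_Q2 w.2⟩)
    (fun w => by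
      show K.co (H.phi (H.ρ w)) = _
      rw [H.phi_rho, K.co_rho _ w.2])
    (fun w x => by
      show K.co ⁅H.ρ w, H.ρ x⁆ = _
      rw [← map_commutatorElement, K.co_rho _ (hc _ w.2 _)])
    (fun x => by
      show K.co ⁅(x : Q), (x : Q)⁆ = 0
      rw [commutatorElement_self, K.co_one]) ⟨a, ha⟩ ⟨b, hb⟩

/-- An abelian quotient that is not elementary gives an abelian group. -/
theorem comm_of_pow {F : Type w} [Field F] [CharP F 2] [Finite F] (K : Coord H F)
    (hne : ∃ x, x ∉ H.C) (hcomm : ∀ a b : Q ⧸ H.C, a * b = b * a)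
    (γ : Q ⧸ H.C →* Q ⧸ H.C) (hγC : ∀ a, γ a ∈ (H.quot hne).C)
    (hγρ : ∀ a, γ ((H.quot hne).ρ a) = (H.quot hne).ρ (γ a))
    (hγs : ∀ c ∈ (H.quot hne).C, ∃ a, γ a = c) (hγk : ∀ a, γ a = 1 → ∃ b, b * b = a) (x y : Q) :
    x * y = y * x := by
  have hc : ∀ a b : Q, ⁅a, b⁆ ∈ H.C := fun a b => by
    rw [← H.mk_eq_one]
    show ((a : Q ⧸ H.C) * b * (a : Q ⧸ H.C)⁻¹ * (b : Q ⧸ H.C)⁻¹) = 1
    rw [hcomm a b, mul_inv_cancel_right, mul_inv_cancel]
  let K' := K.quot hne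
  let η : Q → F := fun a => K'.co (γ (a : Q ⧸ H.C))
  have βl : ∀ w w' a : Q, K.co ⁅w * w', a⁆ = K.co ⁅w, a⁆ + K.co ⁅w', a⁆ := fun w w' a => by
    rw [comm_mul_left (H.C_le_center (hc _ _)), K.co_mul _ (hc _ _) _ (hc _ _)]
  have βr : ∀ w a a' : Q, K.co ⁅w, a * a'⁆ = K.co ⁅w, a⁆ + K.co ⁅w, a'⁆ := fun w a a' => by
    rw [comm_mul_right (H.C_le_center (hc _ _)), K.co_mul _ (hc _ _) _ (hc _ _)]
  have hker : ∀ w, η w = 0 → ∃ b, (b * b)⁻¹ * w ∈ H.C := fun w e => by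
    obtain ⟨b, hb⟩ := hγk _ (K'.co_eq_zero _ (hγC _) e)
    induction b using QuotientGroup.induction_on with
    | H b => exact ⟨b, H.mk_eq_iff.1 hb⟩
  have kl : ∀ w a, η w = 0 → K.co ⁅w, a⁆ = 0 := fun w a e => by
    obtain ⟨b, hb⟩ := hker w e
    have e1 : w = b * b * ((b * b)⁻¹ * w) := by rw [mul_inv_cancel_left]
    rw [e1, βl, βl, commutatorElement_eq_one_iff_mul_comm.2 (H.comm_C hb a).symm, K.co_one,
      add_zero, CharTwo.add_self_eq_zero]
  have kr : ∀ w a, η a = 0 → K.co ⁅w, a⁆ = 0 := fun w a e => by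
    obtain ⟨b, hb⟩ := hker a e
    have e1 : a = b * b * ((b * b)⁻¹ * a) := by rw [mul_inv_cancel_left]
    rw [e1, βr, βr, commutatorElement_eq_one_iff_mul_comm.2 (H.comm_C hb w), K.co_one,
      add_zero, CharTwo.add_self_eq_zero]
  rw [← commutatorElement_eq_one_iff_mul_comm]
  refine K.co_eq_zero _ (hc x y) ?_
  exact alt_trivial K.hlam η
    (fun w w' => by
      show K'.co (γ ((w * w' : Q) : Q ⧸ H.C)) = _
      rw [QuotientGroup.mk_mul, map_mul, K'.co_mul _ (hγC _) _ (hγC _)])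
    (fun t => by
      obtain ⟨c, hc', hct⟩ := K'.co_surj t
      obtain ⟨a, ha⟩ := hγs c hc'
      induction a using QuotientGroup.induction_on with
      | H a => exact ⟨a, by show K'.co _ = t; rw [ha, hct]⟩)
    (fun w a => K.co ⁅w, a⁆) βl βr kl kr H.ρ
    (fun w => by
      show K'.co (γ ((H.quot hne).ρ (w : Q ⧸ H.C))) = _
      rw [hγρ, K'.co_rho _ (hγC _)]
      rfl)
    (fun w a => by rw [← map_commutatorElement, K.co_rho _ (hc _ _)])
    (fun a => by rw [commutatorElement_self, K.co_one]) x y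

set_option maxHeartbeats 400000 in
/-- `Q2` is central when the quotient has the shape. -/
theorem Q2_central {F : Type w} [Field F] [CharP F 2] [Finite F] (K : Coord H F)
    (hne : ∃ x, x ∉ H.C) (h' : (H.quot hne).Shape)
    (hna : ∃ a b : Q ⧸ H.C, a * b ≠ b * a) {w : Q} (hw : w ∈ H.Q2) (x : Q) : ⁅w, x⁆ = 1 := by
  classical
  haveI := H.finite
  let H' := H.quot hne
  let K' := K.quot hne
  have hc : ∀ a ∈ H.Q2, ∀ b : Q, ⁅a, b⁆ ∈ H.C := fun a ha b => by
    rw [← H.mk_eq_one]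
    show ⁅(a : Q ⧸ H.C), (b : Q ⧸ H.C)⁆ = 1
    exact commutatorElement_eq_one_iff_mul_comm.2 (H'.comm_C ((H.quot_mem_C hne).2 ha) _).symm
  let η : Q → F := fun a => H'.eta K' (a : Q ⧸ H.C)
  have ηm : ∀ a b, η (a * b) = η a + η b := fun a b => by
    show H'.eta K' ((a * b : Q) : Q ⧸ H.C) = H'.eta K' (a : Q ⧸ H.C) + H'.eta K' (b : Q ⧸ H.C)
    rw [QuotientGroup.mk_mul]
    exact h'.eta_mul K' (a : Q ⧸ H.C) (b : Q ⧸ H.C)
  have ηs : Function.Surjective η := fun t => by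
    obtain ⟨a, ha⟩ := h'.eta_surj K' t
    induction a using QuotientGroup.induction_on with
    | H a => exact ⟨a, ha⟩
  have hphi : ∀ a ∈ H.Q2, ∀ b, ⁅a, H.phi b⁆ = 1 := fun a ha b => by
    have e1 : ⁅H.α a, H.α b⁆ = ⁅a, b⁆ := by
      rw [← map_commutatorElement, H.mem_C.1 (hc a ha b)]
    have e2 : ⁅H.phi a, H.α b⁆ = 1 :=
      commutatorElement_eq_one_iff_mul_comm.2 (H.comm_C ha _).symm
    rw [H.alpha_eq a, comm_mul_left (by rw [e2]; exact one_mem _), e2, mul_one, H.alpha_eq b,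
      comm_mul_right (H.C_le_center (hc a ha _))] at e1
    exact mul_eq_left.1 e1
  have hkerη : ∀ a b, a ∈ H.Q2 → η b = 0 → ⁅a, b⁆ = 1 := fun a b ha e => by
    obtain ⟨y, hy⟩ := h'.exists_phi_coset ((h'.eta_eq_zero K').1 e)
    induction y using QuotientGroup.induction_on with
    | H y =>
      have hy' : (H.phi y)⁻¹ * b ∈ H.Q2 := (H.quot_mem_C hne).1 hy
      rw [← mul_inv_cancel_left (H.phi y) b, comm_mul_right (H.C_le_center (hc a ha _)),
        hphi a ha y, one_mul]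
      exact H.comm_Q2 K hne hc a _ ha hy'
  let θ : H.Q2 → F := fun a => K.co (H.phi a)
  have θm : ∀ a b, θ (a * b) = θ a + θ b := fun a b => by
    show K.co (H.phi ((a : Q) * b)) = _
    rw [H.phi_mul_of_mem a.2, K.co_mul _ a.2 _ b.2]
  have θs : Function.Surjective θ := fun t => by
    obtain ⟨c, hc', hct⟩ := K.co_surj t
    obtain ⟨v, hv, hvc⟩ := H.exists_phi_eq hne hc'
    exact ⟨⟨v, hv⟩, by show K.co (H.phi v) = t; rw [hvc, hct]⟩
  obtain ⟨f, fl, fr, ft, hf⟩ := descend K.hlam θ η θm ηm θs ηs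
    (fun a b => K.co ⁅(a : Q), b⁆)
    (fun a a' b => by
      show K.co ⁅(a : Q) * a', b⁆ = _
      rw [comm_mul_left (H.C_le_center (hc _ a'.2 _)), K.co_mul _ (hc _ a.2 _) _ (hc _ a'.2 _)])
    (fun a b b' => by
      show K.co ⁅(a : Q), b * b'⁆ = _
      rw [comm_mul_right (H.C_le_center (hc _ a.2 _)), K.co_mul _ (hc _ a.2 _) _ (hc _ a.2 _)])
    (fun a b e => by
      have ha : (a : Q) ∈ H.C := H.phi_eq_one.1 (K.co_eq_zero _ a.2 e)
      show K.co ⁅(a : Q), b⁆ = 0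
      rw [commutatorElement_eq_one_iff_mul_comm.2 (H.comm_C ha _).symm, K.co_one])
    (fun a b e => by show K.co ⁅(a : Q), b⁆ = 0; rw [hkerη _ _ a.2 e, K.co_one])
    (fun a => ⟨H.ρ a, H.rho_mem_Q2 a.2⟩) H.ρ
    (fun a => by show K.co (H.phi (H.ρ a)) = _; rw [H.phi_rho, K.co_rho _ a.2])
    (fun a => by
      show H'.eta K' (H'.ρ (a : Q ⧸ H.C)) = K'.lam * _
      exact h'.eta_rho K' (a : Q ⧸ H.C))
    (fun a b => by
      show K.co ⁅H.ρ a, H.ρ b⁆ = _
      rw [← map_commutatorElement, K.co_rho _ (hc _ a.2 _)])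
  -- some element with both coordinates of the square non-zero
  obtain ⟨x0, hx0η, hx0⟩ : ∃ x0, η x0 ≠ 0 ∧ x0 * x0 ∉ H.C := by
    by_contra hno
    simp only [not_exists, not_and, not_not] at hno
    obtain ⟨a, b, hab⟩ := hna
    have hinv : ∀ a : Q, η a ≠ 0 → (a : Q ⧸ H.C)⁻¹ = a := fun a ha =>
      inv_eq_of_mul_eq_one_right (H.mk_eq_one.2 (hno a ha))
    have houts : ∀ a b : Q, η a ≠ 0 → η b ≠ 0 → η b ≠ η a →
        (a : Q ⧸ H.C) * b = b * a := fun a b ha hb hab' => by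
      have hab'' : η (a * b) ≠ 0 := by
        rw [ηm]; exact fun e => hab' (CharTwo.add_eq_zero.1 e).symm
      have e := hinv _ hab''
      rw [QuotientGroup.mk_mul, mul_inv_rev, hinv a ha, hinv b hb] at e
      exact e.symm
    have hall : ∀ a b : Q, η a ≠ 0 → (a : Q ⧸ H.C) * b = b * a := fun a b ha => by
      by_cases hb : η b ≠ 0 ∧ η b ≠ η a
      · exact houts a b ha hb.1 hb.2
      obtain ⟨t, ht⟩ : ∃ t : F, t ≠ 0 ∧ t ≠ η a := by
        by_contra ht
        simp only [not_exists, not_and, not_not] at ht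
        haveI := Fintype.ofFinite F
        have hF : Nat.card F = 2 ^ n := by
          rw [← H.card_C]
          refine (Nat.card_eq_of_bijective (fun c : H.C => K.co c) ⟨fun c d e => Subtype.ext
            (K.co_inj c.2 d.2 e), fun t => ?_⟩).symm
          obtain ⟨c, hc', hct⟩ := K.co_surj t
          exact ⟨⟨c, hc'⟩, hct⟩
        have hle : (Finset.univ : Finset F).card ≤ ({0, η a} : Finset F).card :=
          Finset.card_le_card fun t _ => by
            rcases eq_or_ne t 0 with h0 | h0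
            · simp [h0]
            · simp [ht t h0]
        rw [Finset.card_univ, ← Nat.card_eq_fintype_card, hF] at hle
        have := H.four_le
        have := Finset.card_le_two (a := (0 : F)) (b := η a)
        omega
      obtain ⟨s, hs⟩ := ηs t
      have h1 : η (s⁻¹ * b) ≠ 0 ∧ η (s⁻¹ * b) ≠ η a := by
        rw [ηm, map_inv_eq ηm, hs]
        rcases not_and_or.1 hb with hb | hb
        · rw [not_not] at hb
          rw [hb, add_zero]; exact ht
        · rw [not_not] at hb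
          rw [hb]
          exact ⟨fun e => ht.2 (CharTwo.add_eq_zero.1 e), fun e => ht.1 (add_eq_right.1 e)⟩
      have e1 := houts a s ha (hs ▸ ht.1) (hs ▸ ht.2)
      have e2 := houts a (s⁻¹ * b) ha h1.1 h1.2
      have : Commute (a : Q ⧸ H.C) ((s : Q ⧸ H.C) * ((s⁻¹ * b : Q) : Q ⧸ H.C)) :=
        (show Commute (a : Q ⧸ H.C) s from e1).mul_right e2
      rwa [← QuotientGroup.mk_mul, mul_inv_cancel_left] at this
    induction a using QuotientGroup.induction_on with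
    | H a =>
      induction b using QuotientGroup.induction_on with
      | H b =>
        refine hab ?_
        by_cases ha : η a = 0
        · obtain ⟨s, hs⟩ := ηs 1
          have h1 : η (a * s) ≠ 0 := by rw [ηm, ha, hs, zero_add]; exact one_ne_zero
          have c1 : Commute ((a * s : Q) : Q ⧸ H.C) b := hall (a * s) b h1
          have c2 : Commute ((s : Q) : Q ⧸ H.C) b := hall s b (hs ▸ one_ne_zero)
          have := c1.mul_left c2.inv_left
          rwa [QuotientGroup.mk_mul, mul_inv_cancel_right] at this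
        · exact hall a b ha
  have hsq : x0 * x0 ∈ H.Q2 := (H.quot_mem_C hne).1 (h'.1 (x0 : Q ⧸ H.C))
  have hk : f 1 1 = 0 := by
    have e := pair_sq fl fr ft (θ ⟨_, hsq⟩) (η x0)
    rw [← hf ⟨_, hsq⟩ x0, commutatorElement_eq_one_iff_mul_comm.2 (mul_assoc x0 x0 x0),
      K.co_one, zero_pow two_ne_zero, eq_comm, mul_eq_zero] at e
    refine eq_zero_of_pow_eq_zero (e.resolve_right (mul_ne_zero (fun e' => hx0 ?_) hx0η))
    exact H.phi_eq_one.1 (K.co_eq_zero _ hsq e')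
  exact K.co_eq_zero _ (hc w hw x) ((hf ⟨w, hw⟩ x).trans (pair_eq_zero fl fr ft hk _ _))

set_option maxHeartbeats 400000 in
/-- The quotient of a group with the hypotheses does not have the shape of a non-abelian one. -/
theorem not_quot_shape {F : Type w} [Field F] [CharP F 2] [Finite F] (K : Coord H F)
    (hne : ∃ x, x ∉ H.C) (h' : (H.quot hne).Shape)
    (hna : ∃ a b : Q ⧸ H.C, a * b ≠ b * a) : False := by
  classical
  haveI := H.finite
  let H' := H.quot hne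
  let K' := K.quot hne
  have hZ : ∀ w ∈ H.Q2, w ∈ Subgroup.center Q := fun w hw => Subgroup.mem_center_iff.2 fun g =>
    (commutatorElement_eq_one_iff_mul_comm.1 (H.Q2_central K hne h' hna hw g)).symm
  have hc2 : ∀ x y : Q, ⁅x, y⁆ ∈ H.Q2 := fun x y => (H.quot_mem_C hne).1 (h'.comm_mem x y)
  have hcl : ∀ x x' y : Q, ⁅x * x', y⁆ = ⁅x, y⁆ * ⁅x', y⁆ := fun x x' y =>
    comm_mul_left (hZ _ (hc2 _ _))
  have hcr : ∀ x y y' : Q, ⁅x, y * y'⁆ = ⁅x, y⁆ * ⁅x, y'⁆ := fun x y y' =>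
    comm_mul_right (hZ _ (hc2 _ _))
  have hz1 : ∀ w x, w ∈ H.Q2 → ⁅x, w⁆ = 1 := fun w x hw =>
    commutatorElement_eq_one_iff_mul_comm.2 (Subgroup.mem_center_iff.1 (hZ w hw) x)
  have hcsq : ∀ x y : Q, ⁅x, y⁆ * ⁅x, y⁆ = 1 := fun x y => by
    rw [← hcl]
    exact H.Q2_central K hne h' hna ((H.quot_mem_C hne).1 (h'.1 (x : Q ⧸ H.C))) y
  have hswap : ∀ x y : Q, ⁅x, y⁆ = ⁅y, x⁆ := fun x y => by
    rw [← commutatorElement_inv y x]
    exact inv_eq_of_mul_eq_one_right (hcsq y x)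
  let θ : Q → F := fun w => K.co (H.phi w)
  have θm : ∀ a b, a ∈ H.Q2 → b ∈ H.Q2 → θ (a * b) = θ a + θ b := fun a b ha hb => by
    show K.co _ = _
    rw [H.phi_mul_of_mem ha, K.co_mul _ ha _ hb]
  let η : Q → F := fun a => H'.eta K' (a : Q ⧸ H.C)
  have ηm : ∀ a b, η (a * b) = η a + η b := fun a b => by
    show H'.eta K' ((a * b : Q) : Q ⧸ H.C) = H'.eta K' (a : Q ⧸ H.C) + H'.eta K' (b : Q ⧸ H.C)
    rw [QuotientGroup.mk_mul]
    exact h'.eta_mul K' (a : Q ⧸ H.C) (b : Q ⧸ H.C)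
  have ηs : Function.Surjective η := fun t => by
    obtain ⟨a, ha⟩ := h'.eta_surj K' t
    induction a using QuotientGroup.induction_on with
    | H a => exact ⟨a, ha⟩
  -- the preimage of the fixed points of the top layer
  let Q3 : Subgroup Q := (H'.Q2).comap (QuotientGroup.mk' H.C)
  have hQ3 : ∀ {a : Q}, a ∈ Q3 ↔ η a = 0 := fun {a} => (h'.eta_eq_zero K').symm
  have hQ3' : ∀ {a : Q}, a ∈ Q3 ↔ H.phi a ∈ H.Q2 := fun {a} => H.quot_mem_C hne
  have hphiQ3 : ∀ a : Q, H.phi a ∈ Q3 := fun a => h'.phi_mem (a : Q ⧸ H.C)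
  let θ3 : Q3 → F := fun a => θ (H.phi a)
  have θ3m : ∀ a b, θ3 (a * b) = θ3 a + θ3 b := fun a b => by
    show θ (H.phi ((a : Q) * b)) = _
    rw [H.phi_mul (hZ _ (hQ3'.1 a.2)), θm _ _ (hQ3'.1 a.2) (hQ3'.1 b.2)]
  have θ3s : Function.Surjective θ3 := fun t => by
    obtain ⟨y, hy⟩ := ηs t
    refine ⟨⟨H.phi y, hphiQ3 y⟩, ?_⟩
    rw [← hy]
    exact (K.quot_co_mk hne _).symm
  have θ3k : ∀ a : Q3, θ3 a = 0 → (a : Q) ∈ H.Q2 := fun a e => by
    rw [H.mem_Q2, ← H.phi_eq_one]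
    exact K.co_eq_zero _ (hQ3'.1 a.2) e
  let σ3 : Q3 → Q3 := fun a => ⟨H.ρ a, hQ3'.2 (by rw [phi_rho]; exact H.rho_mem_Q2 (hQ3'.1 a.2))⟩
  have hσ3 : ∀ a, θ3 (σ3 a) = K.lam * θ3 a := fun a => by
    show K.co (H.phi (H.phi (H.ρ a))) = _
    rw [phi_rho, phi_rho, K.co_rho _ (hQ3'.1 a.2)]
  have hcρ : ∀ x y : Q, ⁅H.ρ x, H.ρ y⁆ = H.ρ ⁅x, y⁆ := fun x y =>
    (map_commutatorElement _ _ _).symm
  have hθρ : ∀ x y : Q, θ (H.ρ ⁅x, y⁆) = K.lam * θ ⁅x, y⁆ := fun x y => by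
    show K.co _ = _
    rw [phi_rho, K.co_rho _ (hc2 x y)]
  have hzero : ∀ w ∈ H.Q2, θ w = 0 → w ∈ H.C := fun w hw e =>
    H.phi_eq_one.1 (K.co_eq_zero _ hw e)
  have h33C : ∀ a b : Q3, ⁅(a : Q), (b : Q)⁆ ∈ H.C := fun a b => by
    refine hzero _ (hc2 _ _) ?_
    exact alt_trivial K.hlam θ3 θ3m θ3s (fun a b => θ ⁅(a : Q), (b : Q)⁆)
      (fun a a' b => by
        show θ ⁅(a : Q) * a', (b : Q)⁆ = _
        rw [hcl, θm _ _ (hc2 _ _) (hc2 _ _)])
      (fun a b b' => by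
        show θ ⁅(a : Q), (b : Q) * b'⁆ = _
        rw [hcr, θm _ _ (hc2 _ _) (hc2 _ _)])
      (fun a b e => by
        show θ ⁅(a : Q), (b : Q)⁆ = 0
        rw [H.Q2_central K hne h' hna (θ3k a e)]; simp [θ, H.phi_one, K.co_one])
      (fun a b e => by
        show θ ⁅(a : Q), (b : Q)⁆ = 0
        rw [hz1 _ _ (θ3k b e)]; simp [θ, H.phi_one, K.co_one])
      σ3 hσ3
      (fun a b => by show θ ⁅H.ρ a, H.ρ b⁆ = _; rw [hcρ, hθρ])
      (fun a => by
        show θ ⁅(a : Q), (a : Q)⁆ = 0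
        rw [commutatorElement_self]; simp [θ, H.phi_one, K.co_one]) a b
  have h33 : ∀ a b : Q, a ∈ Q3 → b ∈ Q3 → ⁅a, b⁆ = 1 := fun a b ha hb => by
    refine K.co_eq_zero _ (h33C ⟨a, ha⟩ ⟨b, hb⟩) ?_
    exact alt_trivial K.hlam θ3 θ3m θ3s (fun a b => K.co ⁅(a : Q), (b : Q)⁆)
      (fun a a' b => by
        show K.co ⁅(a : Q) * a', (b : Q)⁆ = _
        rw [hcl, K.co_mul _ (h33C a b) _ (h33C a' b)])
      (fun a b b' => by
        show K.co ⁅(a : Q), (b : Q) * b'⁆ = _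
        rw [hcr, K.co_mul _ (h33C a b) _ (h33C a b')])
      (fun a b e => by
        show K.co ⁅(a : Q), (b : Q)⁆ = 0
        rw [H.Q2_central K hne h' hna (θ3k a e), K.co_one])
      (fun a b e => by
        show K.co ⁅(a : Q), (b : Q)⁆ = 0
        rw [hz1 _ _ (θ3k b e), K.co_one])
      σ3 hσ3
      (fun a b => by show K.co ⁅H.ρ a, H.ρ b⁆ = _; rw [hcρ, K.co_rho _ (h33C a b)])
      (fun a => by
        show K.co ⁅(a : Q), (a : Q)⁆ = 0
        rw [commutatorElement_self, K.co_one]) ⟨a, ha⟩ ⟨b, hb⟩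
  -- the pairing of the top layer with the middle one
  let g : Q → Q → Q := fun x y => ⁅x, H.phi y⁆
  have hgl : ∀ x x' y, g (x * x') y = g x y * g x' y := fun x x' y => hcl _ _ _
  have hgr : ∀ x y y', g x (y * y') = g x y * g x y' := fun x y y' => by
    show ⁅x, H.phi (y * y')⁆ = _
    rw [H.phi_mul', show y'⁻¹ * H.phi y * y' * H.phi y' = ⁅y'⁻¹, H.phi y⁆ * (H.phi y * H.phi y') by
      simp only [commutatorElement_def, inv_inv]; group, hcr, hz1 _ _ (hc2 _ _), one_mul, hcr]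
  have hgkl : ∀ x y, η x = 0 → g x y = 1 := fun x y e => h33 _ _ (hQ3.2 e) (hphiQ3 y)
  have hgkr : ∀ x y, η y = 0 → g x y = 1 := fun x y e => hz1 _ _ (hQ3'.1 (hQ3.2 e))
  have hgρ : ∀ x y, g (H.ρ x) (H.ρ y) = H.ρ (g x y) := fun x y => by
    show ⁅H.ρ x, H.phi (H.ρ y)⁆ = _
    rw [phi_rho, hcρ]
  have hηρ : ∀ x, η (H.ρ x) = K.lam * η x := fun x => by
    show H'.eta K' (H'.ρ (x : Q ⧸ H.C)) = K'.lam * _
    exact h'.eta_rho K' (x : Q ⧸ H.C)
  have hsymC : ∀ x y, g x y * g y x ∈ H.C := fun x y => by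
    refine hzero _ (mul_mem (hc2 _ _) (hc2 _ _)) ?_
    rw [θm _ _ (hc2 _ _) (hc2 _ _)]
    refine CharTwo.add_eq_zero.2 ?_
    exact pairing_symm K.hlam η ηm ηs (fun x y => θ (g x y))
      (fun a a' b => by simp only [hgl]; exact θm _ _ (hc2 _ _) (hc2 _ _))
      (fun a b b' => by simp only [hgr]; exact θm _ _ (hc2 _ _) (hc2 _ _))
      (fun a b e => by simp [hgkl a b e, θ, H.phi_one, K.co_one])
      (fun a b e => by simp [hgkr a b e, θ, H.phi_one, K.co_one])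
      H.ρ hηρ (fun a b => by simp only [hgρ]; exact hθρ _ _) x y
  have hgc : ∀ x y a b, g x y * g a b = g a b * g x y := fun x y a b =>
    Subgroup.mem_center_iff.1 (hZ _ (hc2 _ _)) _
  have hsym : ∀ x y, g x y * g y x = 1 := fun x y => by
    refine K.co_eq_zero _ (hsymC x y) ?_
    exact alt_trivial K.hlam η ηm ηs (fun x y => K.co (g x y * g y x))
      (fun a a' b => by
        show K.co (g (a * a') b * g b (a * a')) = _
        rw [hgl, hgr, ← K.co_mul _ (hsymC _ _) _ (hsymC _ _)]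
        refine congrArg K.co ?_
        exact (show Commute (g a' b) (g b a) from hgc _ _ _ _).mul_mul_mul_comm _ _)
      (fun a b b' => by
        show K.co (g a (b * b') * g (b * b') a) = _
        rw [hgl, hgr, ← K.co_mul _ (hsymC _ _) _ (hsymC _ _)]
        refine congrArg K.co ?_
        exact (show Commute (g a b') (g b a) from hgc _ _ _ _).mul_mul_mul_comm _ _)
      (fun a b e => by simp [hgkl a b e, hgkr b a e, K.co_one])
      (fun a b e => by simp [hgkr a b e, hgkl b a e, K.co_one])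
      H.ρ hηρ
      (fun a b => by
        simp only [hgρ, ← map_mul]
        exact K.co_rho _ (hsymC a b))
      (fun a => by simp only [g, hcsq, K.co_one]) x y
  have hcC : ∀ x y : Q, ⁅x, y⁆ ∈ H.C := fun x y => by
    rw [H.mem_C, map_commutatorElement, H.alpha_eq x, H.alpha_eq y, hcl, hcr, hcr,
      h33 _ _ (hphiQ3 x) (hphiQ3 y), mul_one, hswap (H.phi x) y, mul_assoc]
    show ⁅x, y⁆ * (g x y * g y x) = _
    rw [hsym, mul_one]
  obtain ⟨a, b, hab⟩ := hna
  induction a using QuotientGroup.induction_on with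
  | H a =>
    induction b using QuotientGroup.induction_on with
    | H b =>
      refine hab (commutatorElement_eq_one_iff_mul_comm.1 ?_)
      exact H.mk_eq_one.2 (hcC a b)

end Hyp

/-- A group with the hypotheses is abelian or has the shape. -/
theorem comm_or_shape : ∀ (N : ℕ) {Q : Type u} [Group Q] (H : Hyp Q n), Nat.card Q = N →
    (∀ x y : Q, x * y = y * x) ∨ H.Shape := by
  intro N
  induction N using Nat.strong_induction_on with
  | _ N ih =>
    intro Q _ H hN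
    haveI := H.finite
    by_cases hne : ∃ x, x ∉ H.C
    swap
    · simp only [not_exists, not_not] at hne
      exact Or.inl (H.comm_of_forall_mem hne)
    obtain ⟨F, _, _, _, -, ⟨K⟩⟩ := exists_coord H
    have hlt : Nat.card (Q ⧸ H.C) < N := by
      have e := Subgroup.card_eq_card_quotient_mul_card_subgroup H.C
      rw [hN, H.card_C] at e
      have h4 := H.four_le
      have : 0 < Nat.card (Q ⧸ H.C) := Nat.card_pos
      nlinarith
    by_cases hc : ∀ a b : Q ⧸ H.C, a * b = b * a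
    · rcases (H.quot hne).comm_structure hc with ⟨hel, -, -, hcard⟩ | ⟨γ, h1, h2, h3, h4⟩
      · exact Or.inr ⟨fun x => H.mk_eq_one.1 (hel x), hcard⟩
      · exact Or.inl (H.comm_of_pow K hne hc γ h1 h2 h3 h4)
    · rcases ih _ hlt (H.quot hne) rfl with h | h
      · exact absurd h hc
      · simp only [not_forall] at hc
        exact (H.not_quot_shape K hne h hc).elim

end Cfsg.Agent.LSType
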