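/-
Coordinates of a non-abelian group with the hypotheses: the squares form a quadratic form of
weight one.
-/
import Cfsg.Agent.Lib.LSType.Dichotomy

set_option autoImplicit false
set_option linter.unusedSectionVars false
set_option linter.style.haveILetI false

namespace Cfsg.Agent.LSType

open scoped commutatorElement

universe u

variable {Q : Type u} [Group Q] {n : ℕ}

set_option maxHeartbeats 400000 in
theorem exists_square_form {F : Type} [Field F] [CharP F 2] [Finite F] (H : Hyp Q n)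
    (K : Coord H F) (h : H.Shape) (hna : ∃ x y : Q, x * y ≠ y * x) :
    ∃ (π : Q →* Multiplicative (F × F)) (iP : Multiplicative F →* Q) (s : F × F → F) (A c B : F),
      Function.Surjective π ∧ Function.Injective iP ∧ π.ker = iP.range ∧
        iP.range ≤ Subgroup.center Q ∧
        (∀ x : Q, x * x = iP (Multiplicative.ofAdd (s (π x).toAdd))) ∧ c ≠ 0 ∧
        ∀ v : F × F, s v ^ 2 = A * v.1 ^ 2 + c * (v.1 * v.2) + B * v.2 ^ 2 := by
  classical
  haveI := H.finite
  have hne := h.ne_top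
  letI : CommGroup (Q ⧸ H.C) :=
    { (inferInstance : Group (Q ⧸ H.C)) with
      mul_comm := fun a b => by
        induction a using QuotientGroup.induction_on with
        | H a =>
          induction b using QuotientGroup.induction_on with
          | H b => exact commutatorElement_eq_one_iff_mul_comm.1 (H.mk_eq_one.2 (h.comm_mem a b)) }
  let cl : Q → Additive (Q ⧸ H.C) := fun x => Additive.ofMul (x : Q ⧸ H.C)
  have cl_mul : ∀ x y, cl (x * y) = cl x + cl y := fun x y => rfl
  have cl_surj : Function.Surjective cl := fun a => by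
    obtain ⟨x, hx⟩ := QuotientGroup.mk_surjective a.toMul
    exact ⟨x, congrArg Additive.ofMul hx⟩
  have cl_eq : ∀ {x y : Q}, cl x = cl y ↔ x⁻¹ * y ∈ H.C := fun {x y} =>
    ⟨fun e => H.mk_eq_iff.1 (Additive.ofMul.injective e),
      fun e => congrArg Additive.ofMul (H.mk_eq_iff.2 e)⟩
  let r : Additive (Q ⧸ H.C) →+ Additive (Q ⧸ H.C) := H.ρbar.toMonoidHom.toAdditive
  have hr : ∀ x, r (cl x) = cl (H.ρ x) := fun x => rfl
  have hcardF : Nat.card F = 2 ^ n := by
    rw [← H.card_C]
    refine (Nat.card_eq_of_bijective (fun c : H.C => K.co c) ⟨fun c d e => Subtype.ext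
      (K.co_inj c.2 d.2 e), fun t => ?_⟩).symm
    obtain ⟨c, hc', hct⟩ := K.co_surj t
    exact ⟨⟨c, hc'⟩, hct⟩
  -- the top coordinate
  have hηC : ∀ c ∈ H.C, H.eta K c = 0 := fun c hc => (h.eta_eq_zero K).2 (H.mem_Q2_of_mem_C hc)
  let ηh : Q →* Multiplicative F :=
    MonoidHom.mk' (fun x => Multiplicative.ofAdd (H.eta K x)) fun x y => by
      rw [h.eta_mul K, ofAdd_add]
  let ηA : Additive (Q ⧸ H.C) →+ F :=
    MonoidHom.toAdditiveLeft (QuotientGroup.lift H.C ηh fun c hc => by
      rw [MonoidHom.mem_ker]; exact congrArg Multiplicative.ofAdd (hηC c hc))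
  have hηA : ∀ x, ηA (cl x) = H.eta K x := fun x => rfl
  -- the bottom coordinate
  have hw : ∀ t : F, ∃ w ∈ H.Q2, K.co (H.phi w) = t := fun t => by
    obtain ⟨c, hc, hct⟩ := K.co_surj t
    obtain ⟨w, hw, hwc⟩ := H.exists_phi_eq hne hc
    exact ⟨w, hw, by rw [hwc, hct]⟩
  choose w hw2 hwt using hw
  have hτeq : ∀ x t, x ∈ H.Q2 → K.co (H.phi x) = t → cl x = cl (w t) := fun x t hx e =>
    congrArg Additive.ofMul (H.mk_eq_of_phi_eq hx (K.co_inj hx (hw2 t) (by rw [e, hwt])))
  let τ : F →+ Additive (Q ⧸ H.C) := AddMonoidHom.mk' (fun t => cl (w t)) fun t t' => by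
    refine (hτeq (w t * w t') _ (mul_mem (hw2 t) (hw2 t')) ?_).symm.trans (cl_mul _ _)
    rw [H.phi_mul_of_mem (hw2 t), K.co_mul _ (hw2 t) _ (hw2 t'), hwt, hwt]
  have hτ : ∀ t, τ t = cl (w t) := fun t => rfl
  have hτρ : ∀ t, τ (K.lam * t) = r (τ t) := fun t => by
    rw [hτ, hτ, hr]
    refine (hτeq _ _ (H.rho_mem_Q2 (hw2 t)) ?_).symm
    rw [H.phi_rho, K.co_rho _ (hw2 t), hwt]
  have hrit : ∀ (k : ℕ) x, (⇑r)^[k] (cl x) = cl ((H.ρ ^ k) x) := by
    intro k
    induction k with
    | zero => intro x; rfl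
    | succ k ih =>
      intro x
      rw [Function.iterate_succ_apply', ih, hr, pow_succ', MulAut.mul_apply]
  have hm : Odd (2 ^ n - 1) := by
    refine Nat.Even.sub_odd (Nat.one_le_two_pow) ?_ odd_one
    exact Nat.even_pow.2 ⟨even_two, by have := H.two_le; omega⟩
  obtain ⟨σ, hσ, hσρ⟩ := equivariant_section
    (fun a => by
      obtain ⟨x, rfl⟩ := cl_surj a
      rw [← cl_mul]
      exact congrArg Additive.ofMul (H.mk_eq_one.2 (h.1 x)))
    ηA
    (fun t => by
      obtain ⟨x, hx⟩ := h.eta_surj K t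
      exact ⟨cl x, (hηA x).trans hx⟩)
    r K.lam_ne hm K.lam_per
    (fun a => by
      obtain ⟨x, rfl⟩ := cl_surj a
      rw [hrit, H.per]; rfl)
    (fun a => by
      obtain ⟨x, rfl⟩ := cl_surj a
      rw [hr, hηA, hηA, h.eta_rho K])
  let Ψ0 : F × F →+ Additive (Q ⧸ H.C) :=
    σ.comp (AddMonoidHom.fst F F) + τ.comp (AddMonoidHom.snd F F)
  have hΨ0 : ∀ v, Ψ0 v = σ v.1 + τ v.2 := fun v => rfl
  have hΨinj : Function.Injective Ψ0 := by
    refine (injective_iff_map_eq_zero Ψ0).2 fun v hv => ?_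
    have e := congrArg ηA hv
    rw [hΨ0, map_add, map_zero, hσ, hτ, hηA, (h.eta_eq_zero K).2 (hw2 _), add_zero] at e
    rw [hΨ0, e, map_zero, zero_add, hτ] at hv
    have hmem : w v.2 ∈ H.C := H.mk_eq_one.1 (Additive.ofMul.injective hv)
    have e2 := hwt v.2
    rw [H.phi_eq_one.2 hmem, K.co_one] at e2
    exact Prod.ext e e2.symm
  let Ψ : F × F ≃+ Additive (Q ⧸ H.C) := AddEquiv.ofBijective Ψ0
    ((Nat.bijective_iff_injective_and_card _).2 ⟨hΨinj, by
      rw [Nat.card_prod, hcardF]; exact h.2.symm⟩)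
  have hΨρ : ∀ v : F × F, r (Ψ v) = Ψ (K.lam * v.1, K.lam * v.2) := fun v => by
    show r (Ψ0 v) = Ψ0 _
    rw [hΨ0, hΨ0, map_add, hσρ, hτρ]
  let p : Q → F × F := fun x => Ψ.symm (cl x)
  have p_mul : ∀ x y, p (x * y) = p x + p y := fun x y => by
    simp only [p, cl_mul, map_add]
  have p_eq : ∀ {x y : Q}, p x = p y → x⁻¹ * y ∈ H.C := fun {x y} e =>
    cl_eq.1 (Ψ.symm.injective e)
  have p_surj : Function.Surjective p := fun v => by
    obtain ⟨x, hx⟩ := cl_surj (Ψ v)
    exact ⟨x, by simp only [p, hx, AddEquiv.symm_apply_apply]⟩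
  choose l hl using p_surj
  have p_rho : ∀ x, p (H.ρ x) = (K.lam * (p x).1, K.lam * (p x).2) := fun x => by
    apply Ψ.injective
    rw [← hΨρ]
    simp only [p, AddEquiv.apply_symm_apply, hr]
  -- the squares
  have hsqmul : ∀ x y : Q, (x * y) * (x * y) = (x * x) * (y * y) * ⁅y, x⁆ := fun x y => by
    have e : (x * y) * (x * y) = x * ⁅y, x⁆ * x * (y * y) := by
      simp only [commutatorElement_def]; group
    rw [e, mul_assoc x, ← H.comm_C (h.comm_mem y x) x, ← mul_assoc x x,
      mul_assoc (x * x), ← H.comm_C (h.comm_mem y x), ← mul_assoc]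
  let s : F × F → F := fun v => K.co (l v * l v)
  have hs : ∀ x, K.co (x * x) = s (p x) := fun x => by
    have hd := p_eq (hl (p x))
    show _ = K.co (l (p x) * l (p x))
    refine congrArg K.co ?_
    conv_lhs => rw [← mul_inv_cancel_left (l (p x)) x]
    rw [hsqmul, commutatorElement_eq_one_iff_mul_comm.2 (H.comm_C hd _).symm, mul_one,
      H.fix_sq _ hd, mul_one]
  have comm_congr : ∀ x x' y : Q, p x = p x' → ⁅x, y⁆ = ⁅x', y⁆ := fun x x' y e => by
    have hd := p_eq e
    have hd' : ⁅x⁻¹ * x', y⁆ = 1 :=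
      commutatorElement_eq_one_iff_mul_comm.2 (H.comm_C hd y).symm
    conv_rhs => rw [← mul_inv_cancel_left x x']
    rw [comm_mul_left (by rw [hd']; exact one_mem _), hd', mul_one]
  have hswap : ∀ x y : Q, ⁅x, y⁆ = ⁅y, x⁆ := fun x y => by
    rw [← commutatorElement_inv y x, H.C_inv (h.comm_mem y x)]
  let hh : F → F → F := fun a b => K.co ⁅l (a, 0), l (0, b)⁆
  have hhl : ∀ a a' b, hh (a + a') b = hh a b + hh a' b := fun a a' b => by
    show K.co _ = _
    rw [comm_congr (l (a + a', 0)) (l (a, 0) * l (a', 0)) _ (by rw [p_mul, hl, hl, hl]; simp),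
      comm_mul_left (H.C_le_center (h.comm_mem _ _)), K.co_mul _ (h.comm_mem _ _) _ (h.comm_mem _ _)]
  have hhr : ∀ a b b', hh a (b + b') = hh a b + hh a b' := fun a b b' => by
    show K.co _ = _
    rw [hswap, comm_congr (l (0, b + b')) (l (0, b) * l (0, b')) _ (by rw [p_mul, hl, hl, hl]; simp),
      hswap, comm_mul_right (H.C_le_center (h.comm_mem _ _)),
      K.co_mul _ (h.comm_mem _ _) _ (h.comm_mem _ _)]
  let sf : F → F → F := fun a b => s (a, b)
  have hsf : ∀ a b, sf a b = sf a 0 + sf 0 b + hh a b := fun a b => by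
    show s (a, b) = K.co _ + K.co _ + K.co _
    have e : p (l (a, 0) * l (0, b)) = (a, b) := by rw [p_mul, hl, hl]; simp
    rw [← e, ← hs, hsqmul, hswap (l (0, b)), K.co_mul _ (mul_mem (h.1 _) (h.1 _)) _ (h.comm_mem _ _),
      K.co_mul _ (h.1 _) _ (h.1 _)]
  have hst : ∀ t a b, sf (t * a) (t * b) = t * sf a b := fun t a b => by
    rcases eq_or_ne t 0 with rfl | ht
    · rw [zero_mul, zero_mul, zero_mul]
      have e : p 1 = ((0 : F), (0 : F)) := by
        have e := p_mul 1 1
        rw [one_mul] at e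
        exact left_eq_add.1 e
      show s (0, 0) = 0
      rw [← e, ← hs, one_mul, K.co_one]
    obtain ⟨k, rfl⟩ := K.hlam t ht
    clear ht
    induction k with
    | zero => simp
    | succ k ih =>
      have e : p (H.ρ (l (K.lam ^ k * a, K.lam ^ k * b))) =
          (K.lam ^ (k + 1) * a, K.lam ^ (k + 1) * b) := by
        rw [p_rho, hl, pow_succ', mul_assoc, mul_assoc]
      show s _ = _
      rw [← e, ← hs, ← map_mul, K.co_rho _ (h.1 _), hs, hl, pow_succ', mul_assoc]
      exact congrArg (K.lam * ·) ih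
  obtain ⟨htt, hquad⟩ := quad_eq hhl hhr hsf hst
  have hc0 : hh 1 1 ≠ 0 := fun h11 => by
    obtain ⟨x, y, hxy⟩ := hna
    have hlin : ∀ v : F × F, s v = v.1 * sf 1 0 + v.2 * sf 0 1 := fun v => by
      show sf v.1 v.2 = _
      rw [hsf, pair_eq_zero hhl hhr htt h11, add_zero, ← hst v.1 1 0, ← hst v.2 0 1]
      simp
    have e := hs (x * y)
    rw [hsqmul, K.co_mul _ (mul_mem (h.1 _) (h.1 _)) _ (h.comm_mem _ _),
      K.co_mul _ (h.1 _) _ (h.1 _), hs, hs, p_mul, hlin, hlin, hlin, Prod.fst_add, Prod.snd_add]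
      at e
    have e0 : K.co ⁅y, x⁆ = 0 := by linear_combination e
    exact hxy (commutatorElement_eq_one_iff_mul_comm.1
      (by rw [hswap]; exact K.co_eq_zero _ (h.comm_mem _ _) e0))
  choose el hel hel' using K.co_surj
  let π : Q →* Multiplicative (F × F) :=
    MonoidHom.mk' (fun x => Multiplicative.ofAdd (p x)) fun x y => by rw [p_mul, ofAdd_add]
  let iP : Multiplicative F →* Q :=
    MonoidHom.mk' (fun t => el t.toAdd) fun t t' => K.co_inj (hel _) (mul_mem (hel _) (hel _))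
      (by rw [K.co_mul _ (hel _) _ (hel _), hel', hel', hel', toAdd_mul])
  have hp1 : p 1 = 0 := by
    have e := p_mul 1 1
    rw [one_mul] at e
    exact left_eq_add.1 e
  refine ⟨π, iP, s, sf 1 0 ^ 2, hh 1 1 ^ 2, sf 0 1 ^ 2, fun v => ⟨l v.toAdd, ?_⟩, fun t t' e => ?_,
    ?_, ?_, fun x => ?_, pow_ne_zero 2 hc0, fun v => hquad v.1 v.2⟩
  · show Multiplicative.ofAdd (p (l v.toAdd)) = v
    rw [hl, ofAdd_toAdd]
  · have e' : el t.toAdd = el t'.toAdd := e
    have := congrArg K.co e'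
    rw [hel', hel'] at this
    exact Multiplicative.toAdd.injective this
  · ext x
    constructor
    · intro hx
      have e : p x = p 1 := (Multiplicative.ofAdd.injective (MonoidHom.mem_ker.1 hx)).trans hp1.symm
      have hxC : x ∈ H.C := by
        have := p_eq e
        rw [mul_one] at this
        exact inv_mem_iff.1 this
      exact ⟨Multiplicative.ofAdd (K.co x), K.co_inj (hel _) hxC (hel' _)⟩
    · rintro ⟨t, rfl⟩
      refine MonoidHom.mem_ker.2 ?_
      show Multiplicative.ofAdd (p (el t.toAdd)) = 1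
      have e : cl (el t.toAdd) = cl 1 := cl_eq.2 (mul_mem (inv_mem (hel _)) (one_mem _))
      show Multiplicative.ofAdd (Ψ.symm (cl (el t.toAdd))) = 1
      rw [e]
      exact congrArg Multiplicative.ofAdd hp1
  · rintro _ ⟨t, rfl⟩
    exact H.C_le_center (hel _)
  · exact K.co_inj (h.1 x) (hel _) ((hs x).trans (hel' _).symm)

end Cfsg.Agent.LSType
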