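/-
The Sylow 2-subgroups of PSL₃(2ⁿ) and PSU₃(2ⁿ) as groups given by their squares.
-/
import Cfsg.Agent.Lib.LSType.Alg
import Cfsg.Agent.Lib.Suzuki2.TypeAModel
import Cfsg.Agent.Lib.SU3Sylow.Embed
import Cfsg.Agent.Lib.SU3Sylow.Pairs
import Cfsg.Agent.Lib.Cover.PSL34

set_option autoImplicit false
set_option linter.unusedSectionVars false
set_option linter.style.haveILetI false

namespace Cfsg.Agent.LSType

open Matrix PSL34Cover Hermitian SU3Sylow

universe u

section Linear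

variable {F : Type} [Field F] [Fintype F] [CharP F 2]

theorem uni_cases (g : Usub (F := F)) :
    ∃ a b c : F, (g : SpecialLinearGroup (Fin 3) F) = uni a b c := by
  obtain ⟨⟨a, b, c⟩, h⟩ := g.2
  exact ⟨a, b, c, h.symm⟩

theorem iso_usub {Q : Type u} [Group Q] [Finite Q] (π : Q →* Multiplicative (F × F))
    (iP : Multiplicative F →* Q) (hπ : Function.Surjective π) (hi : Function.Injective iP)
    (hk : π.ker = iP.range) (hc : iP.range ≤ Subgroup.center Q) (s : F × F → F)
    (hsq : ∀ x : Q, x * x = iP (Multiplicative.ofAdd (s (π x).toAdd))) {c : F} (hc0 : c ≠ 0)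
    (θ : F × F ≃+ F × F) (hθ : ∀ v, s v ^ 2 = c * ((θ v).1 * (θ v).2)) :
    Nonempty (Q ≃* Usub (F := F)) := by
  let top : Usub (F := F) → F × F := fun g =>
    ((g : SpecialLinearGroup (Fin 3) F).1 0 1, (g : SpecialLinearGroup (Fin 3) F).1 1 2)
  have htop : ∀ a b c' : F, ∀ h : uni a b c' ∈ Usub (F := F), top ⟨uni a b c', h⟩ = (a, c') :=
    fun a b c' h => by simp [top, coe_uni]
  have htop_mul : ∀ g g', top (g * g') = top g + top g' := fun g g' => by
    obtain ⟨a, b, c1, h⟩ := uni_cases g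
    obtain ⟨a', b', c1', h'⟩ := uni_cases g'
    simp only [top, Subgroup.coe_mul, h, h', uni_mul, coe_uni]
    simp
  have hmem : ∀ a b c' : F, uni a b c' ∈ Usub (F := F) := fun a b c' => ⟨(a, b, c'), rfl⟩
  let πR : Usub (F := F) →* Multiplicative (F × F) :=
    MonoidHom.mk' (fun g => Multiplicative.ofAdd (θ.symm (top g))) fun g g' => by
      rw [htop_mul, map_add, ofAdd_add]
  let iR : Multiplicative F →* Usub (F := F) :=
    MonoidHom.mk' (fun t => ⟨uni 0 (t.toAdd ^ 2 / c) 0, ⟨(0, t.toAdd ^ 2 / c, 0), rfl⟩⟩)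
      fun t t' => Subtype.ext (by
        show uni _ _ _ = uni _ _ _ * uni _ _ _
        rw [uni_mul, toAdd_mul, CharTwo.add_sq, add_div]; simp)
  refine Suzuki2.iso_of_squares π πR iP iR hπ ?_ hi ?_ hk ?_ hc ?_ ?_
  · intro v
    refine ⟨⟨uni (θ v.toAdd).1 0 (θ v.toAdd).2, ⟨((θ v.toAdd).1, 0, (θ v.toAdd).2), rfl⟩⟩, ?_⟩
    show Multiplicative.ofAdd (θ.symm (top ⟨uni _ _ _, hmem _ _ _⟩)) = v
    rw [htop, Prod.mk.eta, AddEquiv.symm_apply_apply, ofAdd_toAdd]
  · intro t t' e
    have e1 := (uni_inj (congrArg Subtype.val e)).2.1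
    rw [div_left_inj' hc0] at e1
    exact Multiplicative.toAdd.injective (CharTwo.sq_injective e1)
  · ext g
    constructor
    · intro hg
      obtain ⟨a, b, c1, h⟩ := uni_cases g
      have e : θ.symm (top g) = 0 := Multiplicative.ofAdd.injective (MonoidHom.mem_ker.1 hg)
      have e' : top g = 0 := θ.symm.map_eq_zero_iff.1 e
      have ea : a = 0 := by simpa [top, h, coe_uni] using congrArg Prod.fst e'
      have ec : c1 = 0 := by simpa [top, h, coe_uni] using congrArg Prod.snd e'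
      obtain ⟨t, ht⟩ := isSquare_of_charTwo' (b * c)
      refine ⟨Multiplicative.ofAdd t, Subtype.ext ?_⟩
      show uni 0 (t ^ 2 / c) 0 = _
      rw [h, ea, ec, pow_two, ← ht, mul_div_cancel_right₀ _ hc0]
    · rintro ⟨t, rfl⟩
      refine MonoidHom.mem_ker.2 ?_
      show Multiplicative.ofAdd (θ.symm (top ⟨uni 0 (t.toAdd ^ 2 / c) 0, hmem _ _ _⟩)) = 1
      rw [htop, show ((0 : F), (0 : F)) = 0 from rfl, map_zero]
      rfl
  · rintro _ ⟨t, rfl⟩
    refine Subgroup.mem_center_iff.2 fun g => Subtype.ext ?_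
    obtain ⟨a, b, c1, h⟩ := uni_cases g
    show (g : SpecialLinearGroup (Fin 3) F) * uni _ _ _ = uni _ _ _ * (g : SpecialLinearGroup (Fin 3) F)
    rw [h, uni_mul, uni_mul]
    simp [add_comm]
  · intro x g hxg
    refine ⟨_, hsq x, Subtype.ext ?_⟩
    obtain ⟨a, b, c1, h⟩ := uni_cases g
    have e : (π x).toAdd = θ.symm (a, c1) := by
      rw [hxg]
      show θ.symm (top g) = _
      simp [top, h, coe_uni]
    show (g : SpecialLinearGroup (Fin 3) F) * (g : SpecialLinearGroup (Fin 3) F) = uni _ _ _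
    rw [h, uni_mul, toAdd_ofAdd, hθ, e, AddEquiv.apply_symm_apply, CharTwo.add_self_eq_zero,
      CharTwo.add_self_eq_zero, CharTwo.add_self_eq_zero, zero_add, mul_div_cancel_left₀ _ hc0]

theorem sylow_psl {n : ℕ} (hn : 1 ≤ n) (hF : Fintype.card F = 2 ^ n)
    (P : Sylow 2 (ProjectiveSpecialLinearGroup (Fin 3) F)) :
    Nonempty (↥(P : Subgroup (ProjectiveSpecialLinearGroup (Fin 3) F)) ≃* Usub (F := F)) := by
  have hq : Nat.card F = 2 ^ n := by rw [Nat.card_eq_fintype_card, hF]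
  set g := Nat.gcd 3 (2 ^ n - 1) with hg
  have hodd : Odd g := Odd.of_dvd_nat (by decide) (Nat.gcd_dvd_left 3 _)
  have he : Even (2 ^ n) := Nat.even_pow.2 ⟨even_two, by omega⟩
  have hodd1 : Odd (2 ^ n - 1) := Nat.Even.sub_odd Nat.one_le_two_pow he odd_one
  have hcardU : Nat.card (Usub (F := F)) = 2 ^ (3 * n) := by
    rw [card_Usub, hq, ← pow_add, ← pow_add]
    congr 1
    omega
  set f : Usub (F := F) →* ProjectiveSpecialLinearGroup (Fin 3) F :=
    (QuotientGroup.mk' (Subgroup.center (SpecialLinearGroup (Fin 3) F))).comp (Usub (F := F)).subtype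
    with hf
  have hker : f.ker = ⊥ := by
    refine (Subgroup.eq_bot_iff_forall _).2 fun x hx => ?_
    rw [hf, MonoidHom.mem_ker, MonoidHom.comp_apply, QuotientGroup.mk'_apply,
      QuotientGroup.eq_one_iff] at hx
    refine orderOf_eq_one_iff.1 (Nat.eq_one_of_dvd_coprimes (a := 2 ^ (3 * n)) (b := g)
      (Nat.Coprime.pow_left _ (Nat.coprime_two_left.2 hodd)) ?_ ?_)
    · rw [← hcardU]; exact orderOf_dvd_natCard x
    · have hz : Nat.card (Subgroup.center (SpecialLinearGroup (Fin 3) F)) = g := by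
        rw [Cfsg.Agent.ClassicalSL.card_center_sl, Fintype.card_fin, hq]
      rw [← hz, ← Subgroup.orderOf_coe x, ← Subgroup.orderOf_mk (x : SpecialLinearGroup (Fin 3) F) hx]
      exact orderOf_dvd_natCard _
  set N := Nat.card (ProjectiveSpecialLinearGroup (Fin 3) F) with hN
  set M := ((2 ^ n) ^ 3 - 1) * ((2 ^ n) ^ 2 - 1) * (2 ^ n - 1) with hM
  have hMo : Odd M := by
    refine Odd.mul (Odd.mul ?_ ?_) hodd1 <;>
      exact Nat.Even.sub_odd (Nat.one_le_pow _ _ (by positivity))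
        (Nat.even_pow.2 ⟨he, by norm_num⟩) odd_one
  have hN' : g * ((2 ^ n - 1) * N) = 2 ^ (3 * n) * M := by
    have e := Cfsg.Agent.ClassicalSL.card_psl_mul (ι := Fin 3) (F := F)
    rw [Fintype.card_fin, Cfsg.Agent.ClassicalSL.card_gl_fin hq, Fin.prod_univ_three, hq] at e
    rw [hN, hg, e, hM, show (2 : ℕ) ^ (3 * n) = 2 ^ n * (2 ^ n * 2 ^ n) by
      rw [← pow_add, ← pow_add]; congr 1; omega]
    generalize 2 ^ n = q
    simp only [Fin.val_zero, Fin.val_one, Fin.val_two, pow_zero, pow_one, Nat.sub_mul, Nat.mul_sub]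
    ring_nf
  have hdvd : 2 ^ (3 * n) ∣ N := by
    refine Nat.Coprime.dvd_of_dvd_mul_left ?_ (⟨M, hN'⟩ : 2 ^ (3 * n) ∣ g * ((2 ^ n - 1) * N))
      |> fun h => Nat.Coprime.dvd_of_dvd_mul_left ?_ h
    all_goals first
      | exact Nat.Coprime.pow_left _ (Nat.coprime_two_left.2 hodd)
      | exact Nat.Coprime.pow_left _ (Nat.coprime_two_left.2 hodd1)
  obtain ⟨m, hm⟩ := hdvd
  refine exists_equiv_sylow f ((MonoidHom.ker_eq_bot_iff _).1 hker) hcardU hm ?_ P
  have e : 2 ^ (3 * n) * (g * ((2 ^ n - 1) * m)) = 2 ^ (3 * n) * M := by rw [← hN', hm]; ring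
  have e' := Nat.eq_of_mul_eq_mul_left (by positivity) e
  rw [← e'] at hMo
  exact (Nat.odd_mul.1 (Nat.odd_mul.1 hMo).2).2

end Linear

section Unitary

variable {K : Type} [Field K] [Fintype K] [CharP K 2] {σ : K →+* K} [Inv2 σ]
variable {F : Type} [Field F] [Fintype F] [CharP F 2]

/-- An anisotropic binary quadratic form is a multiple of the norm. -/
theorem norm_form (hne : σ ≠ RingHom.id K) (j : F ≃+* fixed σ)
    (hcard : Nat.card K = Nat.card F * Nat.card F) {A c B : F} (hc : c ≠ 0)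
    (hiso : ∀ a b : F, A * a ^ 2 + c * (a * b) + B * b ^ 2 = 0 → a = 0 ∧ b = 0) :
    ∃ (θ : F × F ≃+ K) (κ : F), κ ≠ 0 ∧ ∀ v : F × F,
      j (κ * (A * v.1 ^ 2 + c * (v.1 * v.2) + B * v.2 ^ 2)) = nrm (σ := σ) (θ v) := by
  have hA : A ≠ 0 := fun h => one_ne_zero (hiso 1 0 (by rw [h]; ring)).1
  have hσinv : ∀ x, σ (σ x) = x := fun x => Inv2.inv2 x
  have hex : ∃ x, σ x ≠ x := by
    by_contra h
    simp only [not_exists, not_not] at h
    exact hne (RingHom.ext h)
  obtain ⟨l, hl⟩ := exists_artin_schreier (α := ⇑σ) (map_add σ) (map_mul σ) hσinv hex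
    (r := ((j (A * B / c ^ 2) : fixed σ) : K)) (mem_fixed.1 (j (A * B / c ^ 2)).2)
  have hlσ : σ l ≠ l := fun h => by
    obtain ⟨t, ht⟩ : ∃ t, j t = ⟨l, mem_fixed.2 h⟩ := j.surjective _
    have e : t * t + t = A * B / c ^ 2 := j.injective (Subtype.ext (by
      rw [map_add, map_mul, ht]; exact hl))
    have h2 : (2 : F) = 0 := CharTwo.two_eq_zero
    refine one_ne_zero (hiso (c * t / A) 1 ?_).2
    field_simp at e ⊢
    linear_combination e + (A * B) * h2
  have hσl : σ l = l + 1 := by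
    have e : σ l * σ l + σ l = l * l + l := by
      rw [← map_mul, ← map_add, hl]; exact mem_fixed.1 (j (A * B / c ^ 2)).2
    have h2 : (2 : K) = 0 := CharTwo.two_eq_zero
    have e2 : (σ l - l) * (σ l + l + 1) = 0 := by linear_combination e
    have e3 := (mul_eq_zero.1 e2).resolve_left (sub_ne_zero.2 hlσ)
    linear_combination e3 - (l + 1) * h2
  let θ0 : F × F →+ K := AddMonoidHom.mk'
    (fun v => ((j (A * v.1 / c) : fixed σ) : K) + l * ((j v.2 : fixed σ) : K)) fun v w => by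
      simp only [Prod.fst_add, Prod.snd_add, mul_add, add_div, map_add, Subfield.coe_add]
      ring
  have hinj : Function.Injective θ0 := by
    refine (injective_iff_map_eq_zero θ0).2 fun v hv => ?_
    have hv' : ((j (A * v.1 / c) : fixed σ) : K) + l * ((j v.2 : fixed σ) : K) = 0 := hv
    have hv2 : v.2 = 0 := by
      by_contra h2
      have hne' : ((j v.2 : fixed σ) : K) ≠ 0 := fun e => h2 (j.map_eq_zero_iff.1 (Subtype.ext e))
      have hσv := congrArg σ hv'
      rw [map_add, map_mul, mem_fixed.1 (j (A * v.1 / c)).2, mem_fixed.1 (j v.2).2, map_zero,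
        hσl] at hσv
      exact hne' (by linear_combination hσv - hv')
    rw [hv2, map_zero, ZeroMemClass.coe_zero, mul_zero, add_zero] at hv'
    have e := j.map_eq_zero_iff.1 (Subtype.ext hv' : j (A * v.1 / c) = 0)
    simp only [div_eq_zero_iff, mul_eq_zero, hA, hc, false_or, or_false] at e
    exact Prod.ext e hv2
  refine ⟨AddEquiv.ofBijective θ0 ((Nat.bijective_iff_injective_and_card _).2
    ⟨hinj, by rw [Nat.card_prod, hcard]⟩), A / c ^ 2, div_ne_zero hA (pow_ne_zero 2 hc), fun v => ?_⟩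
  refine Subtype.ext ?_
  show _ = θ0 v * σ (θ0 v)
  set x := A * v.1 / c
  set r := A * B / c ^ 2
  have e : A / c ^ 2 * (A * v.1 ^ 2 + c * (v.1 * v.2) + B * v.2 ^ 2) =
      x * x + x * v.2 + r * (v.2 * v.2) := by
    simp only [x, r]; field_simp
  rw [e]
  show _ = (((j x : fixed σ) : K) + l * ((j v.2 : fixed σ) : K)) *
    σ (((j x : fixed σ) : K) + l * ((j v.2 : fixed σ) : K))
  rw [map_add σ, map_mul σ, mem_fixed.1 (j x).2, mem_fixed.1 (j v.2).2, hσl]
  simp only [map_add, map_mul, Subfield.coe_add, Subfield.coe_mul]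
  linear_combination (-(((j v.2 : fixed σ) : K) * ((j v.2 : fixed σ) : K))) * hl -
    (l * ((j x : fixed σ) : K) * ((j v.2 : fixed σ) : K)) * (CharTwo.two_eq_zero (R := K))

theorem iso_heis (hne : σ ≠ RingHom.id K) (j : F ≃+* fixed σ) {Q : Type u} [Group Q] [Finite Q]
    (π : Q →* Multiplicative (F × F)) (iP : Multiplicative F →* Q) (hπ : Function.Surjective π)
    (hi : Function.Injective iP) (hk : π.ker = iP.range) (hc : iP.range ≤ Subgroup.center Q)
    (s : F × F → F) (hsq : ∀ x : Q, x * x = iP (Multiplicative.ofAdd (s (π x).toAdd)))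
    (θ : F × F ≃+ K) {κ : F} (hκ : κ ≠ 0)
    (hθ : ∀ v, j (κ * s v ^ 2) = nrm (σ := σ) (θ v)) : Nonempty (Q ≃* Heis σ) := by
  haveI : Finite (Heis σ) := Finite.of_injective (fun x : Heis σ => (x.a, x.b))
    fun x y e => Heis.ext (congrArg Prod.fst e) (congrArg Prod.snd e)
  let πR : Heis σ →* Multiplicative (F × F) :=
    MonoidHom.mk' (fun g => Multiplicative.ofAdd (θ.symm g.a)) fun g g' => by
      rw [Heis.mul_a, map_add, ofAdd_add]
  let iR : Multiplicative F →* Heis σ :=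
    MonoidHom.mk' (fun t => Heis.cen (j (κ * t.toAdd ^ 2))) fun t t' => by
      refine Heis.ext ?_ ?_
      · simp
      · simp [toAdd_mul, CharTwo.add_sq, mul_add]
  refine Suzuki2.iso_of_squares π πR iP iR hπ ?_ hi ?_ hk ?_ hc ?_ ?_
  · intro v
    obtain ⟨g, hg⟩ := Heis.exists_mk hne (θ v.toAdd)
    refine ⟨g, ?_⟩
    show Multiplicative.ofAdd (θ.symm g.a) = v
    rw [hg, AddEquiv.symm_apply_apply, ofAdd_toAdd]
  · intro t t' e
    have e1 : ((j (κ * t.toAdd ^ 2) : fixed σ) : K) = ((j (κ * t'.toAdd ^ 2) : fixed σ) : K) :=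
      congrArg Heis.b e
    exact Multiplicative.toAdd.injective
      (CharTwo.sq_injective (mul_left_cancel₀ hκ (j.injective (Subtype.ext e1))))
  · ext g
    constructor
    · intro hg
      have e : g.a = 0 :=
        θ.symm.map_eq_zero_iff.1 (Multiplicative.ofAdd.injective (MonoidHom.mem_ker.1 hg))
      obtain ⟨t, ht⟩ := isSquare_of_charTwo' (j.symm ⟨g.b, Heis.b_fixed e⟩ / κ)
      refine ⟨Multiplicative.ofAdd t, ?_⟩
      show Heis.cen (j (κ * t ^ 2)) = g
      rw [pow_two, ← ht, mul_div_cancel₀ _ hκ, j.apply_symm_apply]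
      exact (Heis.eq_cen e).symm
    · rintro ⟨t, rfl⟩
      refine MonoidHom.mem_ker.2 ?_
      show Multiplicative.ofAdd (θ.symm _) = 1
      rw [show (iR t).a = 0 from rfl, map_zero]
      rfl
  · rintro _ ⟨t, rfl⟩
    exact (Heis.mem_center_iff hne _).2 rfl
  · intro x g hxg
    refine ⟨_, hsq x, ?_⟩
    have e : (π x).toAdd = θ.symm g.a := by rw [hxg]; rfl
    show g * g = Heis.cen (j (κ * _ ^ 2))
    rw [Heis.mul_self, toAdd_ofAdd, hθ, e, AddEquiv.apply_symm_apply]
    rfl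

end Unitary

end Cfsg.Agent.LSType
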